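import Mathlib
import Cfsg.Agent.Lib.SuzType.ThreeWitness
import Cfsg.Agent.Lib.Phan.NineCover

/-!
An elementary abelian subgroup of order 81 in the four-dimensional unitary group over the field with nine
elements: it is the set of 3-elements of the centralizer of two commuting transvections.
-/

set_option autoImplicit false
set_option linter.style.longLine false
set_option maxHeartbeats 1000000
set_option maxRecDepth 100000

namespace CfsgLib.SuzElem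

open Matrix
open CfsgLib.SuzType.Witness (Uni mA mB mS mD mP exists_lift uni_all rel_all)
open CfsgLib.Recog.SU33 (F9 exists_hom)

def mW1 : Matrix (Fin 4) (Fin 4) F9 := !![⟨1, 0⟩, ⟨0, 0⟩, ⟨1, 0⟩, ⟨1, 2⟩; ⟨0, 0⟩, ⟨1, 0⟩, ⟨1, 1⟩, ⟨2, 0⟩; ⟨2, 0⟩, ⟨2, 1⟩, ⟨1, 0⟩, ⟨0, 0⟩; ⟨2, 2⟩, ⟨1, 0⟩, ⟨0, 0⟩, ⟨1, 0⟩]
def mW2 : Matrix (Fin 4) (Fin 4) F9 := !![⟨1, 0⟩, ⟨0, 0⟩, ⟨0, 1⟩, ⟨1, 1⟩; ⟨0, 0⟩, ⟨1, 0⟩, ⟨2, 1⟩, ⟨0, 2⟩; ⟨0, 1⟩, ⟨1, 1⟩, ⟨1, 0⟩, ⟨0, 0⟩; ⟨2, 1⟩, ⟨0, 2⟩, ⟨0, 0⟩, ⟨1, 0⟩]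
/-- inverts both transvections -/
def mI : Matrix (Fin 4) (Fin 4) F9 := !![⟨0, 0⟩, ⟨0, 1⟩, ⟨0, 0⟩, ⟨0, 0⟩; ⟨1, 0⟩, ⟨0, 0⟩, ⟨0, 0⟩, ⟨0, 0⟩; ⟨0, 0⟩, ⟨0, 0⟩, ⟨0, 0⟩, ⟨1, 0⟩; ⟨0, 0⟩, ⟨0, 0⟩, ⟨0, 2⟩, ⟨0, 0⟩]
/-- a map normalizing the subgroup and moving the involution -/
def mF : Matrix (Fin 4) (Fin 4) F9 := !![⟨1, 1⟩, ⟨0, 0⟩, ⟨1, 1⟩, ⟨0, 0⟩; ⟨0, 0⟩, ⟨1, 1⟩, ⟨0, 0⟩, ⟨1, 1⟩; ⟨2, 1⟩, ⟨0, 0⟩, ⟨1, 2⟩, ⟨0, 0⟩; ⟨0, 0⟩, ⟨2, 1⟩, ⟨0, 0⟩, ⟨1, 2⟩]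
def mFi : Matrix (Fin 4) (Fin 4) F9 := !![⟨1, 2⟩, ⟨0, 0⟩, ⟨2, 2⟩, ⟨0, 0⟩; ⟨0, 0⟩, ⟨1, 2⟩, ⟨0, 0⟩, ⟨2, 2⟩; ⟨1, 2⟩, ⟨0, 0⟩, ⟨1, 1⟩, ⟨0, 0⟩; ⟨0, 0⟩, ⟨1, 2⟩, ⟨0, 0⟩, ⟨1, 1⟩]
/-- the scalar minus one -/
def mN : Matrix (Fin 4) (Fin 4) F9 := -1

/-- The products. -/
def mProd (i j k l : Fin 3) : Matrix (Fin 4) (Fin 4) F9 :=
  mA ^ (i : ℕ) * mB ^ (j : ℕ) * (mW1 ^ (k : ℕ) * mW2 ^ (l : ℕ))

/-- The isotropic vectors. -/
def omg : F9 := ⟨1, 1⟩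

theorem uni_more : (Uni mW1 ∧ Uni mW2 ∧ Uni mI) ∧ (Uni mF ∧ Uni mN) := by
  unfold Uni mN; decide +kernel

theorem rel_abelian : (mW1 * mW1 * mW1 = 1 ∧ mW2 * mW2 * mW2 = 1) ∧
    (mA * mW1 = mW1 * mA ∧ mA * mW2 = mW2 * mA ∧ mB * mW1 = mW1 * mB ∧ mB * mW2 = mW2 * mB ∧ mW1 * mW2 = mW2 * mW1) ∧
    (mS * mW1 = mW1 * mW1 * mS ∧ mS * mW2 = mW2 * mW2 * mS) := by decide +kernel

theorem rel_rep : (mI * mS = mS * mI ∧ mI * mA = mA * mA * mI ∧ mI * mB = mB * mB * mI ∧ mI * mW1 = mW2 * mW2 * mI) ∧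
    (mP * mS = mN * (mS * mP) ∧ mP * mA = mB * mP ∧ mP * mB = mA * mP ∧
      mP * (mW1 * mW2) = (mW1 * mW1 * mW2) * mP ∧ mP * mI * mW1 = mW2 * mW2 * (mP * mI)) := by decide +kernel

theorem rel_norm : (mF * mA = mA ^ 2 * mB ^ 2 * mW1 ^ 2 * mF ∧ mF * mB = mA ^ 2 * mB ^ 2 * mW1 * mF ∧
      mF * mW1 = mW2 * mF ∧ mF * mW2 = mA * mB ^ 2 * mF) ∧
    (mF * mFi = 1 ∧ mF * mS * mFi * mS * (mF * mS * mFi * mS * (mF * mS * mFi * mS)) * mD ≠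
      mD * (mF * mS * mFi * mS * (mF * mS * mFi * mS * (mF * mS * mFi * mS)))) := by decide +kernel

theorem prod_inj : ∀ i j k l : Fin 3, mProd i j k l * mP = mP * mProd i j k l →
    mProd i j k l * mD = mD * mProd i j k l → i = 0 ∧ j = 0 ∧ k = 0 ∧ l = 0 := by decide +kernel

theorem F9_pow : ∀ x : ZMod 3 × ZMod 3, (⟨x.1, x.2⟩ : F9) ≠ 0 → (⟨x.1, x.2⟩ : F9) ^ 8 = 1 := by decide +kernel

theorem F9_imag : ∀ x : ZMod 3 × ZMod 3, (⟨x.1, x.2⟩ : F9) + (⟨x.1, x.2⟩ : F9) * ((⟨x.1, x.2⟩ : F9) * ⟨x.1, x.2⟩) = 0 →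
    x.1 = 0 := by decide +kernel

theorem F9_omg : ∀ x y : ZMod 3 × ZMod 3,
    ((⟨x.1, x.2⟩ : F9) - 1) + (⟨y.1, y.2⟩ : F9) * (omg * (omg * omg)) = 0 → (⟨y.1, y.2⟩ : F9) = omg * (⟨x.1, x.2⟩ - 1) := by
  decide +kernel

/-- The matrix fixing both vectors with given first and third column. -/
def mk (α β γ δ : F9) : Matrix (Fin 4) (Fin 4) F9 :=
  let w := omg * (omg * omg)
  !![1 + α, α * w, γ, γ * w; omg * α, 1 + omg * α * w, omg * γ, omg * γ * w;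
     β, β * w, 1 + δ, δ * w; omg * β, omg * β * w, omg * δ, 1 + omg * δ * w]

theorem mk_prod : ∀ i j k l : Fin 3,
    mk ⟨0, ((i : ℕ) : ZMod 3)⟩ ⟨-((k : ℕ) : ZMod 3), ((l : ℕ) : ZMod 3)⟩ ⟨((k : ℕ) : ZMod 3), ((l : ℕ) : ZMod 3)⟩
      ⟨0, ((j : ℕ) : ZMod 3)⟩ = mProd i j k l := by decide +kernel

theorem surj3 : ∀ x : ZMod 3, ∃ i : Fin 3, ((i : ℕ) : ZMod 3) = x := by decide +kernel

/-- A unitary matrix fixing both isotropic vectors is one of the products. -/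
theorem exists_prod {M : Matrix (Fin 4) (Fin 4) F9} (hM : Uni M)
    (hv : M *ᵥ ![1, omg, 0, 0] = ![1, omg, 0, 0]) (hw : M *ᵥ ![0, 0, 1, omg] = ![0, 0, 1, omg]) :
    ∃ i j k l, M = mProd i j k l := by
  have ho : omg * (omg * (omg * omg)) = (-1 : F9) := by decide +kernel
  have ho2 : (omg * (omg * omg)) * ((omg * (omg * omg)) * (omg * (omg * omg))) = omg := by decide +kernel
  set w := omg * (omg * omg) with hwdef
  have cv := fun r => congrFun hv r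
  have cw := fun r => congrFun hw r
  have v0 := cv 0; have v1 := cv 1; have v2 := cv 2; have v3 := cv 3
  have w0 := cw 0; have w1 := cw 1; have w2 := cw 2; have w3 := cw 3
  simp [Matrix.mulVec, dotProduct, Fin.sum_univ_four] at v0 v1 v2 v3 w0 w1 w2 w3
  have hU := hM.1
  have e := fun p q => congrFun (congrFun hU p) q
  simp only [Matrix.mul_apply, Matrix.transpose_apply, Matrix.map_apply, Fin.sum_univ_four] at e
  have cube : ∀ x y : F9, (x * y) * ((x * y) * (x * y)) = x * (x * x) * (y * (y * y)) := fun x y => by ring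
  have h3 : (3 : F9) = 0 := by decide +kernel
  have cadd : ∀ x y : F9, (x + y) * ((x + y) * (x + y)) = x * (x * x) + y * (y * y) := fun x y => by
    linear_combination (x * x * y + x * y * y) * h3
  -- the other two columns
  have m1 : ∀ r, M r 1 = -(w * (![1, omg, 0, 0] r - M r 0)) := fun r => by
    have hr := cv r
    simp [Matrix.mulVec, dotProduct, Fin.sum_univ_four] at hr
    linear_combination -w * hr + (M r 1) * ho
  have m3 : ∀ r, M r 3 = -(w * (![0, 0, 1, omg] r - M r 2)) := fun r => by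
    have hr := cw r
    simp [Matrix.mulVec, dotProduct, Fin.sum_univ_four] at hr
    linear_combination -w * hr + (M r 3) * ho
  have cneg : ∀ x : F9, -x * (-x * -x) = -(x * (x * x)) := fun x => by ring
  -- orthogonality to the two vectors
  have rowv : ∀ c : Fin 4, M 0 c * 1 + M 1 c * w = (1 : Matrix (Fin 4) (Fin 4) F9) c 0 + (1 : Matrix (Fin 4) (Fin 4) F9) c 1 * w := by
    intro c
    rw [← e c 0, ← e c 1]
    have a0 : ∀ r, M r 0 * (M r 0 * M r 0) + M r 1 * (M r 1 * M r 1) * w =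
        ![1, w, 0, 0] r := fun r => by
      have hr := congrFun hv r
      simp [Matrix.mulVec, dotProduct, Fin.sum_univ_four] at hr
      have h := congrArg (fun x : F9 => x * (x * x)) hr
      simp only [cadd, cube] at h
      rw [h]
      fin_cases r <;> simp [hwdef]
    have q0 := a0 0; have q1 := a0 1; have q2 := a0 2; have q3 := a0 3
    simp at q0 q1 q2 q3
    linear_combination -(M 0 c) * q0 - (M 1 c) * q1 - (M 2 c) * q2 - (M 3 c) * q3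
  have roww : ∀ c : Fin 4, M 2 c * 1 + M 3 c * w = (1 : Matrix (Fin 4) (Fin 4) F9) c 2 + (1 : Matrix (Fin 4) (Fin 4) F9) c 3 * w := by
    intro c
    rw [← e c 2, ← e c 3]
    have a0 : ∀ r, M r 2 * (M r 2 * M r 2) + M r 3 * (M r 3 * M r 3) * w =
        ![0, 0, 1, w] r := fun r => by
      have hr := congrFun hw r
      simp [Matrix.mulVec, dotProduct, Fin.sum_univ_four] at hr
      have h := congrArg (fun x : F9 => x * (x * x)) hr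
      simp only [cadd, cube] at h
      rw [h]
      fin_cases r <;> simp [hwdef]
    have q0 := a0 0; have q1 := a0 1; have q2 := a0 2; have q3 := a0 3
    simp at q0 q1 q2 q3
    linear_combination -(M 0 c) * q0 - (M 1 c) * q1 - (M 2 c) * q2 - (M 3 c) * q3
  have r00 := rowv 0; have r02 := rowv 2; have r20 := roww 0; have r22 := roww 2
  simp at r00 r02 r20 r22
  obtain ⟨α, hα⟩ : ∃ α, M 0 0 = 1 + α := ⟨M 0 0 - 1, by ring⟩
  obtain ⟨δ, hδ⟩ : ∃ δ, M 2 2 = 1 + δ := ⟨M 2 2 - 1, by ring⟩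
  set β := M 2 0 with hβ
  set γ := M 0 2 with hγ
  have h10 : M 1 0 = omg * α := by linear_combination -omg * r00 + omg * hα + (M 1 0) * ho
  have h30 : M 3 0 = omg * β := by linear_combination -omg * r20 + (M 3 0) * ho
  have h12 : M 1 2 = omg * γ := by linear_combination -omg * r02 + (M 1 2) * ho
  have h32 : M 3 2 = omg * δ := by linear_combination -omg * r22 + omg * hδ + (M 3 2) * ho
  have hMk : M = mk α β γ δ := by
    refine Matrix.ext fun r c => ?_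
    fin_cases r <;> fin_cases c <;>
      simp [mk, ← hwdef, ← hβ, ← hγ, hα, hδ, h10, h30, h12, h32, m1, m3] <;>
      first
        | done
        | ring1
        | linear_combination -ho
        | linear_combination ho
  have hconj : ∀ x : F9, x * (x * x) = x ^ 3 := fun x => by ring
  have q00 := e 0 0; have q02 := e 0 2; have q22 := e 2 2
  rw [hα, h10, ← hβ, h30, cadd, cube, cube] at q00
  rw [hδ, h12, ← hγ, h32, cadd, cube, cube] at q22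
  rw [hα, h10, ← hβ, h30, hδ, h12, ← hγ, h32, cadd, cube, cube] at q02
  simp [← hwdef] at q00 q02 q22
  have e00 : α + α * (α * α) = 0 := by
    linear_combination q00 - (α * (α * (α * α)) + β * (β * (β * β))) * ho
  have e22 : δ + δ * (δ * δ) = 0 := by
    linear_combination q22 - (γ * (γ * (γ * γ)) + δ * (δ * (δ * δ))) * ho
  have e02 : γ * (γ * γ) + β = 0 := by
    linear_combination q02 - (α * (γ * (γ * γ)) + β * (δ * (δ * δ))) * ho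
  obtain ⟨i, hi⟩ := surj3 α.im
  obtain ⟨j, hj⟩ := surj3 δ.im
  obtain ⟨k, hk⟩ := surj3 γ.re
  obtain ⟨l, hl⟩ := surj3 γ.im
  refine ⟨i, j, k, l, ?_⟩
  have hα' : α = ⟨0, ((i : ℕ) : ZMod 3)⟩ := by
    rw [hi]; exact QuadraticAlgebra.ext (F9_imag (α.re, α.im) e00) rfl
  have hδ' : δ = ⟨0, ((j : ℕ) : ZMod 3)⟩ := by
    rw [hj]; exact QuadraticAlgebra.ext (F9_imag (δ.re, δ.im) e22) rfl
  have hγ' : γ = ⟨((k : ℕ) : ZMod 3), ((l : ℕ) : ZMod 3)⟩ := by rw [hk, hl]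
  have key : ∀ x y : ZMod 3, (⟨-x, y⟩ : F9) = -((⟨x, y⟩ : F9) * (⟨x, y⟩ * ⟨x, y⟩)) := by decide +kernel
  have hβ' : β = ⟨-((k : ℕ) : ZMod 3), ((l : ℕ) : ZMod 3)⟩ := by
    rw [key, ← hγ', eq_neg_iff_add_eq_zero, add_comm]; exact e02
  rw [hMk, hα', hβ', hγ', hδ', mk_prod]

/-- Commuting with both transvections: the vectors are eigenvectors. -/
theorem eigen {M : Matrix (Fin 4) (Fin 4) F9} (ha : M * mA = mA * M) (hb : M * mB = mB * M) :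
    (∃ l : F9, M *ᵥ ![1, omg, 0, 0] = l • ![1, omg, 0, 0]) ∧ ∃ l : F9, M *ᵥ ![0, 0, 1, omg] = l • ![0, 0, 1, omg] := by
  have hA : mA = 1 + vecMulVec ![1, omg, 0, 0] ![(⟨0, 1⟩ : F9), ⟨0, 1⟩ * (omg * (omg * omg)), 0, 0] := by decide +kernel
  have hB : mB = 1 + vecMulVec ![0, 0, 1, omg] ![(0 : F9), 0, ⟨0, 1⟩, ⟨0, 1⟩ * (omg * (omg * omg))] := by decide +kernel
  have hii : (⟨0, 1⟩ : F9) * ⟨0, 2⟩ = 1 := by decide +kernel
  rw [hA, mul_add, add_mul, mul_one, one_mul, add_right_inj, Matrix.mul_vecMulVec, Matrix.vecMulVec_mul] at ha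
  rw [hB, mul_add, add_mul, mul_one, one_mul, add_right_inj, Matrix.mul_vecMulVec, Matrix.vecMulVec_mul] at hb
  constructor
  · refine ⟨(vecMul ![(⟨0, 1⟩ : F9), ⟨0, 1⟩ * (omg * (omg * omg)), 0, 0] M) 0 * ⟨0, 2⟩, funext fun r => ?_⟩
    have h := congrFun (congrFun ha r) 0
    simp only [Matrix.vecMulVec_apply, Matrix.cons_val_zero] at h
    rw [Pi.smul_apply, smul_eq_mul]
    linear_combination (⟨0, 2⟩ : F9) * h - (M *ᵥ ![1, omg, 0, 0]) r * hii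
  · refine ⟨(vecMul ![(0 : F9), 0, ⟨0, 1⟩, ⟨0, 1⟩ * (omg * (omg * omg))] M) 2 * ⟨0, 2⟩, funext fun r => ?_⟩
    have h := congrFun (congrFun hb r) 2
    simp only [Matrix.vecMulVec_apply] at h
    have h2 : (![(0 : F9), 0, ⟨0, 1⟩, ⟨0, 1⟩ * (omg * (omg * omg))] : Fin 4 → F9) 2 = ⟨0, 1⟩ := rfl
    rw [h2] at h
    rw [Pi.smul_apply, smul_eq_mul]
    linear_combination (⟨0, 2⟩ : F9) * h - (M *ᵥ ![0, 0, 1, omg]) r * hii

end CfsgLib.SuzElem
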