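import Mathlib
import Cfsg.Agent.Lib.SuzElem.Witness

/-!
The subgroup of order 81 in the projective group.
-/

set_option autoImplicit false
set_option linter.style.longLine false
set_option maxHeartbeats 1000000
set_option maxRecDepth 100000

namespace CfsgLib.SuzElem

open Matrix
open CfsgLib.SuzType.Witness (Uni mA mB mS mD mP exists_lift uni_all rel_all)
open CfsgLib.Recog.SU33 (F9 exists_hom)

/-- Two commuting pairs `a, b` and `w₁, w₂`, fixed and inverted by the involution `s`, with representatives of the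
symmetries of the pair `a, b`, and a further map `f`. -/
structure Elem (P : Type) [Group P] where
  a : P
  b : P
  w1 : P
  w2 : P
  s : P
  d : P
  sw : P
  f : P
  s_sq : s * s = 1
  s_ne : s ≠ 1
  a3 : a * a * a = 1
  b3 : b * b * b = 1
  w13 : w1 * w1 * w1 = 1
  w23 : w2 * w2 * w2 = 1
  ab : Commute a b
  aw1 : Commute a w1
  aw2 : Commute a w2
  bw1 : Commute b w1
  bw2 : Commute b w2
  w12 : Commute w1 w2
  as_ : Commute a s
  bs : Commute b s
  sw1 : s * w1 = w1 * w1 * s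
  sw2 : s * w2 = w2 * w2 * s
  inj : ∀ i j k l : Fin 3, a ^ (i : ℕ) * b ^ (j : ℕ) * (w1 ^ (k : ℕ) * w2 ^ (l : ℕ)) = 1 → i = 0 ∧ j = 0 ∧ k = 0 ∧ l = 0
  ds : Commute d s
  da : d * a = a * a * d
  db : d * b = b * b * d
  dw : d * w1 = w2 * w2 * d
  ss : Commute sw s
  swa : sw * a = b * sw
  swb : sw * b = a * sw
  sww : sw * (w1 * w2) = w1 * w1 * w2 * sw
  sdw : sw * d * w1 = w2 * w2 * (sw * d)
  fa : f * a = a ^ 2 * b ^ 2 * w1 ^ 2 * f
  fb : f * b = a ^ 2 * b ^ 2 * w1 * f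
  fw1 : f * w1 = w2 * f
  fw2 : f * w2 = a * b ^ 2 * f
  fs : (f * s * f⁻¹ * s) ^ 3 ≠ 1
  cent_pow : ∀ g : P, Commute g a → Commute g b → g ^ 24 = 1
  cent_mem : ∀ g : P, Commute g a → Commute g b → g ^ 3 = 1 →
    ∃ i j k l : Fin 3, g = a ^ (i : ℕ) * b ^ (j : ℕ) * (w1 ^ (k : ℕ) * w2 ^ (l : ℕ))

theorem cube_add (x y : F9) : (x + y) * ((x + y) * (x + y)) = x * (x * x) + y * (y * y) := by
  have h3 : (3 : F9) = 0 := by decide +kernel
  linear_combination (x * x * y + x * y * y) * h3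

theorem cube_mul (x y : F9) : (x * y) * ((x * y) * (x * y)) = x * (x * x) * (y * (y * y)) := by ring

theorem prod_cube : ∀ i j k l : Fin 3, mProd i j k l ^ 3 = 1 := by decide +kernel

theorem prod_sq : ∀ i j k l : Fin 3, mProd i j k l * mProd i j k l = mProd (i + i) (j + j) (k + k) (l + l) := by
  decide +kernel

variable {K : Type} [Field K] [Fintype K]

theorem exists_elem (hK : Fintype.card K = 9) : Nonempty (Elem (Cfsg.PSU 4 K 3)) := by
  haveI : Fact (Nat.Prime 3) := ⟨Nat.prime_three⟩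
  haveI : CharP K 3 := charP_of_card_eq_prime_pow (f := 2) (by norm_num [hK])
  have hF : Fintype.card K = 3 ^ 2 := by rw [hK]; rfl
  obtain ⟨φ, hφ⟩ := exists_hom hK
  obtain ⟨⟨hA, hB, -, -⟩, hD0, hS, hP⟩ := uni_all
  obtain ⟨⟨hW1, hW2, hI⟩, hFu, hN⟩ := uni_more
  obtain ⟨A, eA⟩ := exists_lift φ hA
  obtain ⟨B, eB⟩ := exists_lift φ hB
  obtain ⟨W1, eW1⟩ := exists_lift φ hW1
  obtain ⟨W2, eW2⟩ := exists_lift φ hW2
  obtain ⟨D0, eD0⟩ := exists_lift φ hD0
  obtain ⟨S, eS⟩ := exists_lift φ hS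
  obtain ⟨P, eP⟩ := exists_lift φ hP
  obtain ⟨I, eI⟩ := exists_lift φ hI
  obtain ⟨Fm, eF⟩ := exists_lift φ hFu
  obtain ⟨N, eN⟩ := exists_lift φ hN
  obtain ⟨⟨r1, r2, r3, r4, r5⟩, ⟨-, r7, -, -, -⟩, -, -, nS, -⟩ := rel_all
  obtain ⟨⟨q1, q2⟩, ⟨q3, q4, q5, q6, q7⟩, q8, q9⟩ := rel_abelian
  obtain ⟨⟨p1, p2, p3, p4⟩, p5, p6, p7, p8, p9⟩ := rel_rep
  obtain ⟨⟨f1, f2, f3, f4⟩, f5, f6⟩ := rel_norm
  have eq_of : ∀ {X Y : Cfsg.SU 4 K 3}, X.1.1 = Y.1.1 → X = Y := fun h => Subtype.ext (Subtype.ext h)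
  have val_mul : ∀ X Y : Cfsg.SU 4 K 3, (X * Y).1.1 = X.1.1 * Y.1.1 := fun X Y => rfl
  have val_one : (1 : Cfsg.SU 4 K 3).1.1 = 1 := rfl
  have val_pow : ∀ (X : Cfsg.SU 4 K 3) (n : ℕ), (X ^ n).1.1 = X.1.1 ^ n := fun X n => by
    induction n with
    | zero => simp
    | succ n ih => rw [pow_succ, pow_succ, val_mul, ih]
  have hmul : ∀ (M N : Matrix (Fin 4) (Fin 4) F9), (M * N).map φ = M.map φ * N.map φ := fun M N => Matrix.map_mul
  have hone : (1 : Matrix (Fin 4) (Fin 4) F9).map φ = 1 := Matrix.map_one _ (map_zero φ) (map_one φ)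
  have hpow : ∀ (M : Matrix (Fin 4) (Fin 4) F9) (n : ℕ), (M ^ n).map φ = (M.map φ) ^ n := fun M n => by
    induction n with
    | zero => simpa using hone
    | succ n ih => rw [pow_succ, pow_succ, hmul, ih]
  set π := QuotientGroup.mk' (Subgroup.center (Cfsg.SU 4 K 3)) with hπ
  have hNc : N ∈ Subgroup.center (Cfsg.SU 4 K 3) := Subgroup.mem_center_iff.2 fun g => eq_of (by
    have e : N.1.1 = -1 := by
      rw [eN]; ext i j
      rcases eq_or_ne i j with h | h <;> simp [mN, h]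
    rw [val_mul, val_mul, e, mul_neg, neg_mul, mul_one, one_mul])
  have hN1 : π N = 1 := (QuotientGroup.eq_one_iff N).2 hNc
  have central : ∀ {X : Cfsg.SU 4 K 3} {M : Matrix (Fin 4) (Fin 4) F9}, X.1.1 = M.map φ → π X = 1 →
      M * mP = mP * M ∧ M * mD = mD * M := fun {X M} eX h => by
    have hc := Subgroup.mem_center_iff.1 ((QuotientGroup.eq_one_iff X).1 h)
    have key : ∀ {Y : Cfsg.SU 4 K 3} {L : Matrix (Fin 4) (Fin 4) F9}, Y.1.1 = L.map φ → M * L = L * M := by
      intro Y L eY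
      have h'' := congrArg (fun t : Cfsg.SU 4 K 3 => t.1.1) (hc Y)
      simp only [val_mul, eX, eY, ← hmul] at h''
      exact (Matrix.map_injective hφ.1 h'').symm
    exact ⟨key eP, key eD0⟩
  have rel : ∀ {X Y : Cfsg.SU 4 K 3}, X.1.1 = Y.1.1 → π X = π Y := fun h => congrArg π (eq_of h)
  have eProd : ∀ i j k l : Fin 3,
      (A ^ (i : ℕ) * B ^ (j : ℕ) * (W1 ^ (k : ℕ) * W2 ^ (l : ℕ))).1.1 = (mProd i j k l).map φ := fun i j k l => by
    simp only [val_mul, val_pow, eA, eB, eW1, eW2, mProd, hmul, hpow]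
  -- lifts of centralizing elements
  have centre3 : ∀ {X Z : Cfsg.SU 4 K 3}, Z * Z * Z = 1 → π X * π Z = π Z * π X → X * Z = Z * X := by
    intro X Z hZ h
    have hc : X * Z * X⁻¹ * Z⁻¹ ∈ Subgroup.center (Cfsg.SU 4 K 3) := (QuotientGroup.eq_one_iff _).1 (by
      show π (X * Z * X⁻¹ * Z⁻¹) = 1
      rw [map_mul, map_mul, map_mul, map_inv, map_inv, h, mul_inv_cancel_right, mul_inv_cancel])
    obtain ⟨c, hc4, e⟩ := CfsgLib.Phan.Nine.scalar_of_center hF hc
    set C := X * Z * X⁻¹ * Z⁻¹ with hC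
    have hXZ : X * Z * X⁻¹ = C * Z := by rw [hC, inv_mul_cancel_right]
    have hC3 : C ^ 3 = 1 := by
      have hcz : Commute C Z := (Subgroup.mem_center_iff.1 hc Z).symm
      have h1 : (X * Z * X⁻¹) ^ 3 = 1 := by rw [conj_pow, pow_succ, pow_two, hZ, mul_one, mul_inv_cancel]
      rw [hXZ, hcz.mul_pow, show Z ^ 3 = 1 by rw [pow_succ, pow_two, hZ], mul_one] at h1
      exact h1
    have hC4 : C ^ 4 = 1 := eq_of (by
      rw [val_pow, val_one, show C.1.1 = c • 1 from e, smul_pow, one_pow, hc4, one_smul])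
    have hC1 : C = 1 := by rw [pow_succ, hC3, one_mul] at hC4; exact hC4
    rw [hC1, one_mul] at hXZ
    exact mul_inv_eq_iff_eq_mul.1 hXZ
  have hA3 : A * A * A = 1 := eq_of (by rw [val_mul, val_mul, eA, ← hmul, ← hmul, r1, hone, val_one])
  have hB3 : B * B * B = 1 := eq_of (by rw [val_mul, val_mul, eB, ← hmul, ← hmul, r2, hone, val_one])
  have cent : ∀ g : Cfsg.PSU 4 K 3, Commute g (π A) → Commute g (π B) → ∃ (X : Cfsg.SU 4 K 3) (M : Matrix (Fin 4) (Fin 4) F9),
      π X = g ∧ X.1.1 = M.map φ ∧ ∃ i j k l, M ^ 8 = mProd i j k l := by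
    intro g ga gb
    obtain ⟨X, rfl⟩ := QuotientGroup.mk'_surjective _ g
    have hXA := centre3 hA3 ga.eq
    have hXB := centre3 hB3 gb.eq
    let M : Matrix (Fin 4) (Fin 4) F9 := Matrix.of fun i j => (RingEquiv.ofBijective φ hφ).symm (X.1.1 i j)
    have eX : X.1.1 = M.map φ := by
      ext i j
      exact ((RingEquiv.ofBijective φ hφ).apply_symm_apply _).symm
    have hMA : M * mA = mA * M := Matrix.map_injective hφ.1 (by
      show (M * mA).map φ = (mA * M).map φ
      rw [hmul, hmul, ← eX, ← eA, ← val_mul, hXA, val_mul])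
    have hMB : M * mB = mB * M := Matrix.map_injective hφ.1 (by
      show (M * mB).map φ = (mB * M).map φ
      rw [hmul, hmul, ← eX, ← eB, ← val_mul, hXB, val_mul])
    have hMu : Uni M := by
      refine ⟨Matrix.map_injective hφ.1 ?_, hφ.1 ?_⟩
      · have h2 : ((M.map fun x => x * (x * x)).map φ) = (M.map φ).map (fun x => x ^ 3) := by
          ext i j; simp [pow_succ, mul_assoc]
        show (Mᵀ * M.map fun x => x * (x * x)).map φ = (1 : Matrix (Fin 4) (Fin 4) F9).map φ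
        rw [hmul, hone, h2, Matrix.transpose_map, ← eX]
        ext i j
        have h := X.2 (Pi.single i 1) (Pi.single j 1)
        change Cfsg.hermForm 4 K 3 (X.1.1 *ᵥ Pi.single i 1) (X.1.1 *ᵥ Pi.single j 1) = _ at h
        simp only [Cfsg.hermForm, Matrix.mulVec_single_one, Matrix.col_apply] at h
        rw [Matrix.mul_apply]
        simp only [Matrix.transpose_apply, Matrix.map_apply, h]
        rw [Matrix.one_apply]
        fin_cases i <;> fin_cases j <;> simp [Fin.sum_univ_four]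
      · rw [RingHom.map_det, RingHom.mapMatrix_apply, ← eX, map_one]
        exact X.1.2
    obtain ⟨⟨l, hl⟩, m, hm⟩ := eigen hMA hMB
    have hdet : IsUnit M.det := by rw [hMu.2]; exact isUnit_one
    have hl0 : l ≠ 0 := fun h => by
      rw [h, zero_smul] at hl
      have := congrArg (fun v => M⁻¹ *ᵥ v) hl
      simp only [Matrix.mulVec_mulVec, Matrix.nonsing_inv_mul _ hdet, Matrix.one_mulVec, Matrix.mulVec_zero] at this
      exact one_ne_zero (congrFun this 0)
    have hm0 : m ≠ 0 := fun h => by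
      rw [h, zero_smul] at hm
      have := congrArg (fun v => M⁻¹ *ᵥ v) hm
      simp only [Matrix.mulVec_mulVec, Matrix.nonsing_inv_mul _ hdet, Matrix.one_mulVec, Matrix.mulVec_zero] at this
      exact one_ne_zero (congrFun this 2)
    have iter : ∀ (v : Fin 4 → F9) (c : F9), M *ᵥ v = c • v → ∀ n : ℕ, (M ^ n) *ᵥ v = c ^ n • v := by
      intro v c hvc n
      induction n with
      | zero => simp
      | succ n ih => rw [pow_succ, ← Matrix.mulVec_mulVec, hvc, Matrix.mulVec_smul, ih, smul_smul, pow_succ']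
    have h8 : Uni (M ^ 8) := by
      have hmm : ∀ {U V : Matrix (Fin 4) (Fin 4) F9}, Uni U → Uni V → Uni (U * V) := by
        intro U V hU hV
        have hm : (U * V).map (fun x => x * (x * x)) = U.map (fun x => x * (x * x)) * V.map (fun x => x * (x * x)) := by
          refine Matrix.ext fun r c => ?_
          simp only [Matrix.map_apply, Matrix.mul_apply, Fin.sum_univ_four, cube_add, cube_mul]
        refine ⟨?_, by rw [Matrix.det_mul, hU.2, hV.2, one_mul]⟩
        rw [hm, Matrix.transpose_mul, mul_assoc, ← mul_assoc Uᵀ, hU.1, one_mul, hV.1]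
      have h2 := hmm hMu hMu
      have h4 := hmm h2 h2
      have e8 : M ^ 8 = M * M * (M * M) * (M * M * (M * M)) := by simp only [pow_succ, pow_zero, one_mul, mul_assoc]
      rw [e8]
      exact hmm h4 h4
    refine ⟨X, M, rfl, eX, exists_prod h8 ?_ ?_⟩
    · rw [iter _ l hl, show l ^ 8 = 1 from F9_pow (l.re, l.im) hl0, one_smul]
    · rw [iter _ m hm, show m ^ 8 = 1 from F9_pow (m.re, m.im) hm0, one_smul]
  refine ⟨{
    a := π A, b := π B, w1 := π W1, w2 := π W2, s := π S, d := π I, sw := π P, f := π Fm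
    s_sq := ?s_sq, s_ne := ?s_ne, a3 := ?a3, b3 := ?b3, w13 := ?w13, w23 := ?w23, ab := ?ab, aw1 := ?aw1, aw2 := ?aw2, bw1 := ?bw1
    bw2 := ?bw2, w12 := ?w12, as_ := ?as_, bs := ?bs, sw1 := ?sw1, sw2 := ?sw2, inj := ?inj, ds := ?ds, da := ?da, db := ?db, dw := ?dw
    ss := ?ss, swa := ?swa, swb := ?swb, sww := ?sww, sdw := ?sdw, fa := ?fa, fb := ?fb, fw1 := ?fw1, fw2 := ?fw2, fs := ?fs
    cent_pow := ?cent_pow, cent_mem := ?cent_mem }⟩
  case s_ne => exact fun h => nS (central eS h).1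
  case inj =>
    intro i j k l h
    simp only [← map_pow, ← map_mul] at h
    obtain ⟨h1, h2⟩ := central (eProd i j k l) h
    exact prod_inj i j k l h1 h2
  case fs =>
    intro h
    have hinv : (Fm⁻¹).1.1 = mFi.map φ := by
      have h1 : (Fm⁻¹).1.1 * Fm.1.1 = 1 := by rw [← val_mul, inv_mul_cancel]; rfl
      calc (Fm⁻¹).1.1 = (Fm⁻¹).1.1 * (mF * mFi).map φ := by rw [f5, hone, mul_one]
        _ = mFi.map φ := by rw [hmul, ← eF, ← mul_assoc, h1, one_mul]
    rw [← map_inv, ← map_mul, ← map_mul, ← map_mul, ← map_pow] at h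
    have hX : ((Fm * S * Fm⁻¹ * S) ^ 3).1.1 = (mF * mS * mFi * mS * (mF * mS * mFi * mS * (mF * mS * mFi * mS))).map φ := by
      rw [val_pow, val_mul, val_mul, val_mul, hinv, eF, eS]
      simp only [hmul, pow_succ, pow_zero, one_mul, mul_assoc]
    exact f6 (central hX h).2
  case cent_pow =>
    intro g ga gb
    obtain ⟨X, M, rfl, eX, i, j, k, l, h⟩ := cent g ga gb
    rw [← map_pow]
    refine (rel (Y := 1) ?_).trans (map_one π)
    rw [val_pow, eX, ← hpow, show 24 = 8 * 3 from rfl, pow_mul, h, prod_cube, hone, val_one]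
  case cent_mem =>
    intro g ga gb g3
    obtain ⟨X, M, rfl, eX, i, j, k, l, h⟩ := cent g ga gb
    have hg8 : π X ^ 8 = π (A ^ (i : ℕ) * B ^ (j : ℕ) * (W1 ^ (k : ℕ) * W2 ^ (l : ℕ))) := by
      rw [← map_pow]
      exact rel (by rw [val_pow, eX, ← hpow, h, eProd])
    have hsq : π X = (π X ^ 8) ^ 2 := by
      rw [← pow_mul, show 8 * 2 = 3 * 5 + 1 from rfl, pow_succ, pow_mul, g3, one_pow, one_mul]
    have hM2 := prod_sq i j k l
    refine ⟨i + i, j + j, k + k, l + l, ?_⟩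
    rw [hsq, hg8, ← map_pow]
    simp only [← map_pow, ← map_mul]
    refine rel ?_
    rw [val_pow, eProd, pow_two, ← hmul, hM2, eProd]
  all_goals try simp only [Commute, SemiconjBy, ← map_mul, ← map_pow]
  all_goals try rw [← map_one π]
  case ss =>
    have : P * S = N * (S * P) := eq_of (by rw [val_mul, val_mul, val_mul, eP, eS, eN, ← hmul, ← hmul, ← hmul, p5])
    rw [this, map_mul, hN1, one_mul]
  case w12 => exact rel (by rw [val_mul, val_mul, eW1, eW2, ← hmul, ← hmul, q7])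
  all_goals refine rel ?_
  all_goals simp only [val_mul, val_pow, val_one, eA, eB, eW1, eW2, eS, eI, eP, eF, ← hmul, ← hpow, r1, r2, r3, r4, r5,
    r7, q1, q2, q3, q4, q5, q6, q8, q9, p1, p2, p3, p4, p6, p7, p8, p9, f1, f2, f3, f4, hone]

end CfsgLib.SuzElem
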