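import Mathlib
import Cfsg.Agent.Lib.SuzType.ThreeSplit

/-!
Finite facts on the rotations of the three planes and the maps normalizing their group.
-/

set_option autoImplicit false
set_option linter.style.longLine false
set_option maxHeartbeats 1000000
set_option synthInstance.maxSize 8000
set_option synthInstance.maxHeartbeats 1000000

namespace CfsgLib.SuzElem

open CfsgLib.SuzType

/-- A representative of a class sends the two rotations to rotations, with one common exponent. -/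
theorem rep_conj : ∀ r : Fin 4, ∃ (s : Bool) (u : Fin 3), u ≠ 0 ∧ (∀ t,
    pmap ((0, 0, 0, r) : Par) (pmap ((1, 0, 0, 0) : Par) (six t)) =
      pmap (if s then ((u, 0, 0, 0) : Par) else (0, u, 0, 0)) (pmap ((0, 0, 0, r) : Par) (six t))) ∧ ∀ t,
    pmap ((0, 0, 0, r) : Par) (pmap ((0, 1, 0, 0) : Par) (six t)) =
      pmap (if s then ((0, u, 0, 0) : Par) else (u, 0, 0, 0)) (pmap ((0, 0, 0, r) : Par) (six t)) := by
  decide +kernel

theorem par_split : ∀ p : Par, ∀ t,
    pmap ((0, 0, 0, p.2.2.2) : Par) (pmap ((p.1, p.2.1, p.2.2.1, 0) : Par) (six t)) = pmap p (six t) := by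
  decide +kernel

theorem fix_sixteen : ∀ i j k : Fin 3,
    (Finset.univ.filter fun v : V => pmap ((i, j, k, 0) : Par) v = v).card = 16 →
    (i ≠ 0 ∧ j = 0 ∧ k = 0) ∨ (i = 0 ∧ j ≠ 0 ∧ k = 0) ∨ (i = 0 ∧ j = 0 ∧ k ≠ 0) := by decide +kernel

theorem odd_moves : ∀ p : Par, ¬ ((∀ t,
    pmap p (refl pA (pmap ((1, 0, 0, 0) : Par) (six t))) =
      pmap ((1, 0, 0, 0) : Par) (pmap p (refl pA (six t)))) ∧ ∀ t,
    pmap p (refl pA (pmap ((0, 1, 0, 0) : Par) (six t))) =
      pmap ((0, 1, 0, 0) : Par) (pmap p (refl pA (six t)))) := by decide +kernel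

theorem refl_pC_facts : ∀ t,
    refl pC (pmap ((1, 0, 0, 0) : Par) (six t)) = pmap ((1, 0, 0, 0) : Par) (refl pC (six t)) ∧
    refl pC (pmap ((0, 1, 0, 0) : Par) (six t)) = pmap ((0, 1, 0, 0) : Par) (refl pC (six t)) ∧
    refl pC (Y0 (six t)) = Y0 (Y0 (refl pC (six t))) ∧ refl pC (refl pC (six t)) = six t := by decide +kernel

theorem rot_fixed : ∀ v : V, Y0 v = v → pmap ((1, 0, 0, 0) : Par) v = v → pmap ((0, 1, 0, 0) : Par) v = v → v = 0 := by
  decide +kernel

end CfsgLib.SuzElem
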