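import Mathlib
import Cfsg.Agent.Lib.SuzType.ThreeMain
import Cfsg.Agent.Lib.SuzElem.Elem
import Cfsg.Agent.Lib.SuzElem.Tables

/-!
The elementary abelian group of order 243 above the central element of order three.
-/

set_option autoImplicit false
set_option linter.style.longLine false
set_option linter.style.haveILetI false
set_option linter.unusedSectionVars false
set_option maxHeartbeats 1000000
set_option synthInstance.maxSize 8000
set_option synthInstance.maxHeartbeats 1000000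

namespace CfsgLib.SuzElem

open Subgroup
open CfsgLib.SuzType
open Fin.NatCast

theorem pow_mod_three {M : Type*} [Monoid M] {g : M} (h : g ^ 3 = 1) (n : ℕ) : g ^ ((n : Fin 3) : ℕ) = g ^ n := by
  rw [Fin.val_natCast, ← pow_eq_pow_mod n h]

namespace Elem

variable {P : Type} [Group P] [Finite P] (E : Elem P)

omit [Finite P] in
theorem a_pow_three : E.a ^ 3 = 1 := by rw [pow_succ, pow_two, E.a3]
omit [Finite P] in
theorem b_pow_three : E.b ^ 3 = 1 := by rw [pow_succ, pow_two, E.b3]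
omit [Finite P] in
theorem w1_pow_three : E.w1 ^ 3 = 1 := by rw [pow_succ, pow_two, E.w13]
omit [Finite P] in
theorem w2_pow_three : E.w2 ^ 3 = 1 := by rw [pow_succ, pow_two, E.w23]

/-- The subgroup generated by the pair `a, b`. -/
def AB : Subgroup P where
  carrier := {g | ∃ i j : ℕ, g = E.a ^ i * E.b ^ j}
  one_mem' := ⟨0, 0, by simp⟩
  mul_mem' := by
    rintro _ _ ⟨i, j, rfl⟩ ⟨i', j', rfl⟩
    refine ⟨i + i', j + j', ?_⟩
    rw [pow_add, pow_add, mul_assoc (E.a ^ i), ← mul_assoc (E.b ^ j), (E.ab.symm.pow_pow j i').eq]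
    simp only [mul_assoc]
  inv_mem' := by
    rintro _ ⟨i, j, rfl⟩
    refine ⟨2 * i, 2 * j, inv_eq_of_mul_eq_one_right ?_⟩
    rw [mul_assoc (E.a ^ i), ← mul_assoc (E.b ^ j), (E.ab.symm.pow_pow j (2 * i)).eq, mul_assoc (E.a ^ (2 * i)),
      ← pow_add E.b, ← mul_assoc, ← pow_add, show i + 2 * i = 3 * i by ring, show j + 2 * j = 3 * j by ring,
      pow_mul, pow_mul, E.a_pow_three, E.b_pow_three, one_pow, one_pow, one_mul]

/-- The subgroup generated by the pair `w₁, w₂`. -/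
def Wg : Subgroup P where
  carrier := {g | ∃ i j : ℕ, g = E.w1 ^ i * E.w2 ^ j}
  one_mem' := ⟨0, 0, by simp⟩
  mul_mem' := by
    rintro _ _ ⟨i, j, rfl⟩ ⟨i', j', rfl⟩
    refine ⟨i + i', j + j', ?_⟩
    rw [pow_add, pow_add, mul_assoc (E.w1 ^ i), ← mul_assoc (E.w2 ^ j), (E.w12.symm.pow_pow j i').eq]
    simp only [mul_assoc]
  inv_mem' := by
    rintro _ ⟨i, j, rfl⟩
    refine ⟨2 * i, 2 * j, inv_eq_of_mul_eq_one_right ?_⟩
    rw [mul_assoc (E.w1 ^ i), ← mul_assoc (E.w2 ^ j), (E.w12.symm.pow_pow j (2 * i)).eq, mul_assoc (E.w1 ^ (2 * i)),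
      ← pow_add E.w2, ← mul_assoc, ← pow_add, show i + 2 * i = 3 * i by ring, show j + 2 * j = 3 * j by ring,
      pow_mul, pow_mul, E.w1_pow_three, E.w2_pow_three, one_pow, one_pow, one_mul]

theorem AB_comm {u v : P} (hu : u ∈ E.AB) (hv : v ∈ E.Wg) : Commute u v := by
  obtain ⟨i, j, rfl⟩ := hu
  obtain ⟨k, l, rfl⟩ := hv
  exact (((E.aw1.pow_pow i k).mul_right (E.aw2.pow_pow i l)).mul_left
    ((E.bw1.pow_pow j k).mul_right (E.bw2.pow_pow j l)))

/-- The subgroup of order 81. -/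
def U : Subgroup P where
  carrier := {g | ∃ u ∈ E.AB, ∃ v ∈ E.Wg, g = u * v}
  one_mem' := ⟨1, one_mem _, 1, one_mem _, (mul_one 1).symm⟩
  mul_mem' := by
    rintro _ _ ⟨u, hu, v, hv, rfl⟩ ⟨u', hu', v', hv', rfl⟩
    refine ⟨u * u', mul_mem hu hu', v * v', mul_mem hv hv', ?_⟩
    rw [mul_assoc u, ← mul_assoc v, ← (E.AB_comm hu' hv).eq]
    simp only [mul_assoc]
  inv_mem' := by
    rintro _ ⟨u, hu, v, hv, rfl⟩
    exact ⟨u⁻¹, inv_mem hu, v⁻¹, inv_mem hv, by rw [← mul_inv_rev, (E.AB_comm hu hv).eq]⟩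

theorem a_mem : E.a ∈ E.AB := ⟨1, 0, by simp⟩
theorem b_mem : E.b ∈ E.AB := ⟨0, 1, by simp⟩
theorem w1_mem : E.w1 ∈ E.Wg := ⟨1, 0, by simp⟩
theorem w2_mem : E.w2 ∈ E.Wg := ⟨0, 1, by simp⟩

theorem AB_le_U : E.AB ≤ E.U := fun u hu => ⟨u, hu, 1, one_mem _, (mul_one u).symm⟩
theorem Wg_le_U : E.Wg ≤ E.U := fun v hv => ⟨1, one_mem _, v, hv, (one_mul v).symm⟩

theorem inf_eq {u v : P} (hu : u ∈ E.AB) (hv : v ∈ E.Wg) (h : u * v = 1) : u = 1 ∧ v = 1 := by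
  obtain ⟨i, j, rfl⟩ := hu
  obtain ⟨k, l, rfl⟩ := hv
  rw [← pow_mod_three E.a_pow_three i, ← pow_mod_three E.b_pow_three j, ← pow_mod_three E.w1_pow_three k,
    ← pow_mod_three E.w2_pow_three l] at h
  obtain ⟨h1, h2, h3, h4⟩ := E.inj _ _ _ _ h
  rw [← pow_mod_three E.a_pow_three i, ← pow_mod_three E.b_pow_three j, ← pow_mod_three E.w1_pow_three k,
    ← pow_mod_three E.w2_pow_three l, h1, h2, h3, h4]
  simp

theorem Wg_inv {v : P} (hv : v ∈ E.Wg) : E.s * v = v⁻¹ * E.s := by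
  obtain ⟨i, j, rfl⟩ := hv
  have h1 : E.w1⁻¹ = E.w1 * E.w1 := inv_eq_of_mul_eq_one_right (by rw [← mul_assoc, E.w13])
  have h2 : E.w2⁻¹ = E.w2 * E.w2 := inv_eq_of_mul_eq_one_right (by rw [← mul_assoc, E.w23])
  have hs1 : SemiconjBy E.s E.w1 E.w1⁻¹ := by show _ = _; rw [h1]; exact E.sw1
  have hs2 : SemiconjBy E.s E.w2 E.w2⁻¹ := by show _ = _; rw [h2]; exact E.sw2
  have h : SemiconjBy E.s (E.w1 ^ i * E.w2 ^ j) ((E.w1⁻¹) ^ i * (E.w2⁻¹) ^ j) :=
    (hs1.pow_right i).mul_right (hs2.pow_right j)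
  rw [inv_pow, inv_pow, ← mul_inv_rev, ← (E.w12.pow_pow i j).eq] at h
  exact h.eq

theorem AB_fixed {u : P} (hu : u ∈ E.AB) : Commute E.s u := by
  obtain ⟨i, j, rfl⟩ := hu
  exact ((E.as_.pow_left i).mul_left (E.bs.pow_left j)).symm

theorem U_fixed {g : P} (hg : g ∈ E.U) (h : E.s * g = g * E.s) : g ∈ E.AB := by
  obtain ⟨u, hu, v, hv, rfl⟩ := hg
  have h' : E.s * (u * v) = u * v⁻¹ * E.s := by
    rw [← mul_assoc, (E.AB_fixed hu).eq, mul_assoc, E.Wg_inv hv, ← mul_assoc]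
  rw [h] at h'
  have hv2 : v = v⁻¹ := mul_left_cancel (mul_right_cancel h')
  have h3 : v ^ 3 = 1 := by
    obtain ⟨k, l, rfl⟩ := hv
    rw [(E.w12.pow_pow k l).mul_pow, ← pow_mul, ← pow_mul, mul_comm k, mul_comm l, pow_mul, pow_mul,
      E.w1_pow_three, E.w2_pow_three, one_pow, one_pow, one_mul]
  have h2 : v * v = 1 := by nth_rewrite 1 [hv2]; exact inv_mul_cancel v
  rw [pow_succ, pow_two, h2, one_mul] at h3
  rw [h3, mul_one]
  exact hu

theorem card_AB : Nat.card E.AB = 9 := by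
  let f : Fin 3 × Fin 3 → E.AB := fun p => ⟨E.a ^ (p.1 : ℕ) * E.b ^ (p.2 : ℕ), p.1, p.2, rfl⟩
  have hf : Function.Bijective f := by
    refine ⟨fun ⟨i, j⟩ ⟨i', j'⟩ h => ?_, fun ⟨g, i, j, hg⟩ => ?_⟩
    · have h' : E.a ^ (i : ℕ) * E.b ^ (j : ℕ) = E.a ^ (i' : ℕ) * E.b ^ (j' : ℕ) := congrArg Subtype.val h
      have key : E.a ^ ((i : ℕ) + 2 * i') * E.b ^ ((j : ℕ) + 2 * j') = 1 := by
        rw [pow_add, pow_add, mul_assoc (E.a ^ (i : ℕ)), ← mul_assoc (E.a ^ (2 * (i' : ℕ))),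
          (E.ab.pow_pow _ _).eq, mul_assoc (E.b ^ (j : ℕ)), ← mul_assoc, h', mul_assoc (E.a ^ (i' : ℕ)),
          ← mul_assoc (E.b ^ (j' : ℕ)), (E.ab.symm.pow_pow _ _).eq, mul_assoc (E.a ^ (2 * (i' : ℕ))), ← pow_add E.b,
          ← mul_assoc, ← pow_add, show (i' : ℕ) + 2 * i' = 3 * i' by ring, show (j' : ℕ) + 2 * j' = 3 * j' by ring,
          pow_mul, pow_mul, E.a_pow_three, E.b_pow_three, one_pow, one_pow, one_mul]
      rw [← pow_mod_three E.a_pow_three, ← pow_mod_three E.b_pow_three] at key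
      obtain ⟨h1, h2, -, -⟩ := E.inj _ _ 0 0 (by rw [key]; simp)
      have h1' := congrArg Fin.val h1
      have h2' := congrArg Fin.val h2
      simp only [Fin.val_natCast, Fin.val_zero] at h1' h2'
      have := i.isLt; have := i'.isLt; have := j.isLt; have := j'.isLt
      exact Prod.ext (Fin.ext (show (i : ℕ) = i' by omega)) (Fin.ext (show (j : ℕ) = j' by omega))
    · refine ⟨((i : Fin 3), (j : Fin 3)), Subtype.ext ?_⟩
      show E.a ^ _ * E.b ^ _ = g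
      rw [pow_mod_three E.a_pow_three, pow_mod_three E.b_pow_three, hg]
  rw [← Nat.card_eq_of_bijective f hf, Nat.card_prod, Nat.card_fin]

theorem card_U : Nat.card E.U = 81 := by
  have hW : Nat.card E.Wg = 9 := by
    let f : Fin 3 × Fin 3 → E.Wg := fun p => ⟨E.w1 ^ (p.1 : ℕ) * E.w2 ^ (p.2 : ℕ), p.1, p.2, rfl⟩
    have hf : Function.Bijective f := by
      refine ⟨fun ⟨i, j⟩ ⟨i', j'⟩ h => ?_, fun ⟨g, i, j, hg⟩ => ?_⟩
      · have h' : E.w1 ^ (i : ℕ) * E.w2 ^ (j : ℕ) = E.w1 ^ (i' : ℕ) * E.w2 ^ (j' : ℕ) := congrArg Subtype.val h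
        have key : E.w1 ^ ((i : ℕ) + 2 * i') * E.w2 ^ ((j : ℕ) + 2 * j') = 1 := by
          rw [pow_add, pow_add, mul_assoc (E.w1 ^ (i : ℕ)), ← mul_assoc (E.w1 ^ (2 * (i' : ℕ))),
            (E.w12.pow_pow _ _).eq, mul_assoc (E.w2 ^ (j : ℕ)), ← mul_assoc, h', mul_assoc (E.w1 ^ (i' : ℕ)),
            ← mul_assoc (E.w2 ^ (j' : ℕ)), (E.w12.symm.pow_pow _ _).eq, mul_assoc (E.w1 ^ (2 * (i' : ℕ))),
            ← pow_add E.w2, ← mul_assoc, ← pow_add, show (i' : ℕ) + 2 * i' = 3 * i' by ring,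
            show (j' : ℕ) + 2 * j' = 3 * j' by ring,
            pow_mul, pow_mul, E.w1_pow_three, E.w2_pow_three, one_pow, one_pow, one_mul]
        rw [← pow_mod_three E.w1_pow_three, ← pow_mod_three E.w2_pow_three] at key
        obtain ⟨-, -, h1, h2⟩ := E.inj 0 0 _ _ (by rw [key]; simp)
        have h1' := congrArg Fin.val h1
        have h2' := congrArg Fin.val h2
        simp only [Fin.val_natCast, Fin.val_zero] at h1' h2'
        have := i.isLt; have := i'.isLt; have := j.isLt; have := j'.isLt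
        exact Prod.ext (Fin.ext (show (i : ℕ) = i' by omega)) (Fin.ext (show (j : ℕ) = j' by omega))
      · refine ⟨((i : Fin 3), (j : Fin 3)), Subtype.ext ?_⟩
        show E.w1 ^ _ * E.w2 ^ _ = g
        rw [pow_mod_three E.w1_pow_three, pow_mod_three E.w2_pow_three, hg]
    rw [← Nat.card_eq_of_bijective f hf, Nat.card_prod, Nat.card_fin]
  let g : E.AB × E.Wg → E.U := fun p => ⟨p.1 * p.2, p.1, p.1.2, p.2, p.2.2, rfl⟩
  have hg : Function.Bijective g := by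
    refine ⟨fun ⟨u, v⟩ ⟨u', v'⟩ h => ?_, fun ⟨x, u, hu, v, hv, hx⟩ => ⟨(⟨u, hu⟩, ⟨v, hv⟩), Subtype.ext hx.symm⟩⟩
    have h' : (u : P) * v = u' * v' := congrArg Subtype.val h
    obtain ⟨h1, h2⟩ := E.inf_eq (mul_mem (inv_mem u'.2) u.2) (mul_mem v.2 (inv_mem v'.2)) (by
      rw [mul_assoc (u' : P)⁻¹, ← mul_assoc (u : P), h', mul_inv_cancel_right, inv_mul_cancel])
    exact Prod.ext (Subtype.ext (inv_mul_eq_one.1 h1).symm) (Subtype.ext (mul_inv_eq_one.1 h2))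
  rw [← Nat.card_eq_of_bijective g hg, Nat.card_prod, E.card_AB, hW]

end Elem

variable {G : Type*} [Group G] [Finite G] {z : G} {Q : Subgroup G}
variable {P : Type} [Group P] [Finite P]

/-- Rotations of the first two planes and a map of `C(y)` onto `P` matching them with the pair `a, b`. -/
structure Setup {K : Coord z Q 1} {y : G} (T : Three K y) (E : Elem P) where
  ra : G
  rb : G
  haS : ra ∈ T.sub sideA
  haa : K.act ra = pmap (sideA.r 1)
  ra3 : ra ^ 3 = 1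
  hbS : rb ∈ T.sub sideB
  hba : K.act rb = pmap (sideB.r 1)
  rb3 : rb ^ 3 = 1
  psi : ↥(Cy y) →* P
  surj : Function.Surjective psi
  ker : ∀ c, psi c = 1 ↔ (c : G) ∈ zpowers y
  psi_z : psi ⟨z, T.zY⟩ = E.s
  rot_iff : ∀ c : ↥(Cy y), psi c ∈ E.AB ↔ ∃ i j k : ℕ, (c : G) = ra ^ i * rb ^ j * y ^ k

section rot

variable {K : Coord z Q 1} {y : G} (T : Three K y)
include T

theorem rot_commute {a b : G} (ha : a ∈ T.sub sideA) (hb : b ∈ T.sub sideB) :
    Commute a b ∧ Commute a y ∧ Commute b y :=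
  ⟨T.sides_commute ha hb, (mem_Dg.1 ha.1).2, (mem_Dg.1 hb.1).2⟩

theorem eq_one_of_inv {c : G} (hc : c ∈ zpowers y) (h : c = c⁻¹) : c = 1 := by
  have h3 : c ^ 3 = 1 := by
    obtain ⟨n, rfl⟩ := mem_zpowers_iff.1 hc
    rw [← zpow_natCast, ← zpow_mul, mul_comm, zpow_mul, zpow_natCast, T.y_three, one_zpow]
  have h2 : c * c = 1 := by nth_rewrite 2 [h]; exact mul_inv_cancel c
  rw [pow_succ, pow_two, h2, one_mul] at h3
  exact h3

theorem y_comm_z {c : G} (hc : c ∈ zpowers y) : Commute z c := by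
  obtain ⟨n, rfl⟩ := mem_zpowers_iff.1 hc
  exact ((show Commute z y from T.yz.symm).zpow_right n)

/-- The group of the three rotations. -/
def rotGroup {a b : G} (ha : a ∈ T.sub sideA) (hb : b ∈ T.sub sideB) (ha3 : a ^ 3 = 1) (hb3 : b ^ 3 = 1) :
    Subgroup G where
  carrier := {c | ∃ i j k : ℕ, c = a ^ i * b ^ j * y ^ k}
  one_mem' := ⟨0, 0, 0, by simp⟩
  mul_mem' := by
    obtain ⟨hab, hay, hby⟩ := rot_commute T ha hb
    rintro _ _ ⟨i, j, k, rfl⟩ ⟨i', j', k', rfl⟩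
    refine ⟨i + i', j + j', k + k', ?_⟩
    calc a ^ i * b ^ j * y ^ k * (a ^ i' * b ^ j' * y ^ k')
        = a ^ i * b ^ j * ((y ^ k * (a ^ i' * b ^ j')) * y ^ k') := by group
      _ = a ^ i * b ^ j * ((a ^ i' * b ^ j' * y ^ k) * y ^ k') := by
          rw [((hay.symm.pow_pow k i').mul_right (hby.symm.pow_pow k j')).eq]
      _ = a ^ i * (b ^ j * a ^ i') * b ^ j' * (y ^ k * y ^ k') := by group
      _ = a ^ i * (a ^ i' * b ^ j) * b ^ j' * (y ^ k * y ^ k') := by rw [(hab.symm.pow_pow j i').eq]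
      _ = _ := by rw [pow_add, pow_add, pow_add]; group
  inv_mem' := by
    obtain ⟨hab, hay, hby⟩ := rot_commute T ha hb
    rintro _ ⟨i, j, k, rfl⟩
    refine ⟨2 * i, 2 * j, 2 * k, inv_eq_of_mul_eq_one_right ?_⟩
    have h1 : Commute (a ^ i * b ^ j) (y ^ k) := (hay.pow_pow i k).mul_left (hby.pow_pow j k)
    have h2 : Commute (a ^ i * b ^ j * y ^ k) (a ^ i * b ^ j * y ^ k) := Commute.refl _
    have hsq : a ^ (2 * i) * b ^ (2 * j) * y ^ (2 * k) = (a ^ i * b ^ j * y ^ k) ^ 2 := by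
      rw [h1.mul_pow, (hab.pow_pow i j).mul_pow, ← pow_mul, ← pow_mul, ← pow_mul, mul_comm i, mul_comm j, mul_comm k]
    rw [hsq, ← pow_succ', h1.mul_pow, (hab.pow_pow i j).mul_pow, ← pow_mul, ← pow_mul, ← pow_mul, mul_comm i,
      mul_comm j, mul_comm k, pow_mul, pow_mul, pow_mul, ha3, hb3, T.y_three, one_pow, one_pow, one_pow, one_mul, one_mul]

theorem rotGroup_le {a b : G} (ha : a ∈ T.sub sideA) (hb : b ∈ T.sub sideB) (ha3 : a ^ 3 = 1) (hb3 : b ^ 3 = 1) :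
    rotGroup T ha hb ha3 hb3 ≤ Dg z y := by
  rintro _ ⟨i, j, k, rfl⟩
  exact mul_mem (mul_mem (pow_mem ha.1 _) (pow_mem hb.1 _)) (pow_mem T.y_mem _)

theorem rotGroup_act {a b : G} (ha : a ∈ T.sub sideA) (haa : K.act a = pmap (sideA.r 1)) (hb : b ∈ T.sub sideB)
    (hba : K.act b = pmap (sideB.r 1)) (ha3 : a ^ 3 = 1) (hb3 : b ^ 3 = 1) (i j k : ℕ) :
    K.act (a ^ i * b ^ j * y ^ k) = pmap (((i : Fin 3), (j : Fin 3), (k : Fin 3), 0) : Par) := by
  rw [← pow_mod_three ha3 i, ← pow_mod_three hb3 j, ← pow_mod_three T.y_three k,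
    T.act_tri ha haa hb hba]

theorem card_rotGroup {a b : G} (ha : a ∈ T.sub sideA) (haa : K.act a = pmap (sideA.r 1)) (hb : b ∈ T.sub sideB)
    (hba : K.act b = pmap (sideB.r 1)) (ha3 : a ^ 3 = 1) (hb3 : b ^ 3 = 1) :
    Nat.card (rotGroup T ha hb ha3 hb3) = 27 := by
  let f : Fin 3 × Fin 3 × Fin 3 → rotGroup T ha hb ha3 hb3 := fun p =>
    ⟨a ^ (p.1 : ℕ) * b ^ (p.2.1 : ℕ) * y ^ (p.2.2 : ℕ), p.1, p.2.1, p.2.2, rfl⟩
  have hf : Function.Bijective f := by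
    refine ⟨fun ⟨i, j, k⟩ ⟨i', j', k'⟩ h => ?_, fun ⟨g, i, j, k, hg⟩ => ?_⟩
    · have h' : K.act (a ^ (i : ℕ) * b ^ (j : ℕ) * y ^ (k : ℕ)) =
          K.act (a ^ (i' : ℕ) * b ^ (j' : ℕ) * y ^ (k' : ℕ)) :=
        congrArg (fun c : rotGroup T ha hb ha3 hb3 => K.act (c : G)) h
      rw [T.act_tri ha haa hb hba, T.act_tri ha haa hb hba] at h'
      have := pmap_inj h'
      simpa using this
    · refine ⟨((i : Fin 3), (j : Fin 3), (k : Fin 3)), Subtype.ext ?_⟩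
      show a ^ _ * b ^ _ * y ^ _ = g
      rw [pow_mod_three ha3, pow_mod_three hb3, pow_mod_three T.y_three, hg]
  rw [← Nat.card_eq_of_bijective f hf, Nat.card_prod, Nat.card_prod, Nat.card_fin]

/-- An element fixing the three rotations differs from one of them by `1` or `z`. -/
theorem cent_rot {a b : G} (ha : a ∈ T.sub sideA) (haa : K.act a = pmap (sideA.r 1)) (hb : b ∈ T.sub sideB)
    (hba : K.act b = pmap (sideB.r 1)) (ha3 : a ^ 3 = 1) (hb3 : b ^ 3 = 1) {c : G} (hc : c ∈ Dg z y)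
    (hca : c * a = a * c) (hcb : c * b = b * c) :
    c ∈ rotGroup T ha hb ha3 hb3 ∨ c * z ∈ rotGroup T ha hb ha3 hb3 := by
  have H := T.hyp
  have hcz := (mem_Dg.1 hc).1
  obtain ⟨p, hp⟩ := T.exists_par hc
  have hcomm : ∀ {w : G} {q : Par}, w ∈ Dg z y → K.act w = pmap q → c * w = w * c → ∀ t,
      pmap p (pmap q (six t)) = pmap q (pmap p (six t)) := fun {w q} hw hwa h t => by
    have h' := congrArg (fun x => K.act x (six t)) h
    simp only [K.act_mul H hcz (mem_Dg.1 hw).1, K.act_mul H (mem_Dg.1 hw).1 hcz, hp, hwa] at h'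
    exact h'
  have h0 : p.2.2.2 = 0 := par_commuting p (hcomm ha.1 haa hca) (hcomm hb.1 hba hcb)
  set r := a ^ (p.1 : ℕ) * b ^ (p.2.1 : ℕ) * y ^ (p.2.2.1 : ℕ) with hr
  have hrR : r ∈ rotGroup T ha hb ha3 hb3 := ⟨_, _, _, rfl⟩
  have hact : K.act r = K.act c := by
    rw [hr, T.act_tri ha haa hb hba, hp]
    congr 1
    rw [← h0]
  obtain ⟨hq, hqD⟩ := T.div_mem (rotGroup_le T ha hb ha3 hb3 hrR) hc hact
  set q := r⁻¹ * c with hqdef
  obtain ⟨hab, hay, hby⟩ := rot_commute T ha hb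
  have hra : Commute r a := ((Commute.refl a).pow_left _ |>.mul_left (hab.symm.pow_left _)).mul_left (hay.symm.pow_left _)
  have hrb : Commute r b := ((hab.pow_left _).mul_left ((Commute.refl b).pow_left _)).mul_left (hby.symm.pow_left _)
  have fix : ∀ {w : G} {s : Par}, w ∈ Dg z y → K.act w = pmap s → Commute c w → Commute r w →
      pmap s (K.vec q) = K.vec q := fun {w s} hw hwa hcw hrw => by
    have hqw : Commute q w := hrw.inv_left.mul_left hcw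
    rw [← hwa, K.act_vec H (mem_Dg.1 hw).1 hq, ← hqw.eq, mul_inv_cancel_right]
  have hv : K.vec q = 0 := rot_fixed _ ((T.mem_Q_iff hq).1 hqD) (fix ha.1 haa hca hra) (fix hb.1 hba hcb hrb)
  rcases (K.zero_iff hq).1 hv with h | h
  · exact Or.inl (by rw [inv_mul_eq_one] at h; rwa [← h])
  · refine Or.inr ?_
    have : c = r * z := by rw [← h, hqdef, mul_inv_cancel_left]
    rw [this, mul_assoc, Coord.zz H, mul_one]
    exact hrR

end rot

namespace Setup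

variable {K : Coord z Q 1} {y : G} {T : Three K y} {E : Elem P} (S : Setup T E)

/-- The group of order 27 of the rotations. -/
def Rot : Subgroup G := rotGroup T S.haS S.hbS S.ra3 S.rb3

theorem rot_le : S.Rot ≤ Dg z y := rotGroup_le T _ _ _ _

theorem card_Rot : Nat.card S.Rot = 27 := card_rotGroup T _ S.haa _ S.hba _ _

theorem rot_comm {r r' : G} (hr : r ∈ S.Rot) (hr' : r' ∈ S.Rot) : Commute r r' := by
  obtain ⟨hab, hay, hby⟩ := rot_commute T S.haS S.hbS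
  obtain ⟨i, j, k, rfl⟩ := hr
  obtain ⟨i', j', k', rfl⟩ := hr'
  have ha : Commute (S.ra ^ i' * S.rb ^ j' * y ^ k') S.ra :=
    (((Commute.refl S.ra).pow_left _).mul_left (hab.symm.pow_left _)).mul_left (hay.symm.pow_left _)
  have hb : Commute (S.ra ^ i' * S.rb ^ j' * y ^ k') S.rb :=
    ((hab.pow_left _).mul_left ((Commute.refl S.rb).pow_left _)).mul_left (hby.symm.pow_left _)
  have hy : Commute (S.ra ^ i' * S.rb ^ j' * y ^ k') y :=
    ((hay.pow_left _).mul_left (hby.pow_left _)).mul_left ((Commute.refl y).pow_left _)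
  exact (((ha.symm.pow_left i).mul_left (hb.symm.pow_left j)).mul_left (hy.symm.pow_left k))

theorem ra_mem : S.ra ∈ S.Rot := ⟨1, 0, 0, by simp⟩
theorem rb_mem : S.rb ∈ S.Rot := ⟨0, 1, 0, by simp⟩
theorem y_mem : y ∈ S.Rot := ⟨0, 0, 1, by simp⟩

theorem mem_rot_iff {c : G} (hc : c ∈ Cy y) : c ∈ S.Rot ↔ S.psi ⟨c, hc⟩ ∈ E.AB := (S.rot_iff ⟨c, hc⟩).symm

/-- The group of order 243. -/
def A : Subgroup G := (E.U.comap S.psi).map (Cy y).subtype

theorem mem_A {x : G} : x ∈ S.A ↔ ∃ h : x ∈ Cy y, S.psi ⟨x, h⟩ ∈ E.U :=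
  ⟨fun ⟨c, hc, e⟩ => e ▸ ⟨c.2, hc⟩, fun ⟨h, hx⟩ => ⟨⟨x, h⟩, hx, rfl⟩⟩

theorem A_le : S.A ≤ Cy y := fun _ hx => (S.mem_A.1 hx).1

theorem rot_le_A : S.Rot ≤ S.A := fun c hc =>
  S.mem_A.2 ⟨T.DY (S.rot_le hc), E.AB_le_U ((S.mem_rot_iff _).1 hc)⟩

theorem card_A : Nat.card S.A = 243 := by
  rw [A, card_map_of_injective (subtype_injective _)]
  let f := S.psi.subgroupComap E.U
  have hf : Function.Surjective f := MonoidHom.subgroupComap_surjective_of_surjective _ _ S.surj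
  have h := card_eq_card_quotient_mul_card_subgroup f.ker
  rw [Nat.card_congr (QuotientGroup.quotientKerEquivOfSurjective f hf).toEquiv, E.card_U] at h
  have hker : Nat.card f.ker = 3 := by
    rw [← T.ord, ← Nat.card_zpowers]
    refine Nat.card_congr ⟨fun c => ⟨c.1.1.1, (S.ker c.1.1).1 (congrArg Subtype.val c.2)⟩,
      fun c => ⟨⟨⟨c.1, mem_Cy.2 ?_⟩, ?_⟩, ?_⟩, fun c => rfl, fun c => rfl⟩
    · obtain ⟨n, hn⟩ := mem_zpowers_iff.1 c.2
      rw [← hn]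
      exact ((Commute.refl y).zpow_left n).eq
    · show S.psi _ ∈ E.U
      rw [(S.ker _).2 c.2]
      exact one_mem _
    · exact Subtype.ext ((S.ker _).2 c.2)
  rw [h, hker]

theorem rot_fix {r : G} (hr : r ∈ S.Rot) : z * r = r * z := (mem_Dg.1 (S.rot_le hr)).1.symm

theorem A_inf {x : G} (hx : x ∈ S.A) (hz : z * x = x * z) : x ∈ S.Rot := by
  obtain ⟨h, hxU⟩ := S.mem_A.1 hx
  refine (S.mem_rot_iff h).2 (E.U_fixed hxU ?_)
  rw [← S.psi_z, ← map_mul, ← map_mul]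
  exact congrArg S.psi (Subtype.ext hz)

/-- The elements with image in `U` centralize the rotations modulo `⟨y⟩`. -/
theorem U_comm {u v : P} (hu : u ∈ E.AB) (hv : v ∈ E.U) : Commute u v := by
  obtain ⟨u', hu', v', hv', rfl⟩ := hv
  refine Commute.mul_right ?_ (E.AB_comm hu hv')
  obtain ⟨i, j, rfl⟩ := hu
  obtain ⟨i', j', rfl⟩ := hu'
  exact (((Commute.refl E.a).pow_pow i i').mul_right (E.ab.pow_pow i j')).mul_left
    ((E.ab.symm.pow_pow j i').mul_right ((Commute.refl E.b).pow_pow j j'))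

theorem commutator_zpowers {x x' : G} (hx : x ∈ Cy y) (hx' : x' ∈ Cy y) (h : Commute (S.psi ⟨x, hx⟩) (S.psi ⟨x', hx'⟩)) :
    x * x' * x⁻¹ * x'⁻¹ ∈ zpowers y := by
  refine (S.ker (⟨x, hx⟩ * ⟨x', hx'⟩ * ⟨x, hx⟩⁻¹ * ⟨x', hx'⟩⁻¹)).1 ?_
  rw [map_mul, map_mul, map_mul, map_inv, map_inv, h.eq, mul_inv_cancel_right, mul_inv_cancel]

/-- The sign trick. -/
theorem sign {r x : G} (hr : r ∈ S.Rot) (hx : x ∈ S.A) (hinv : z * x * z⁻¹ = x⁻¹) : Commute r x := by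
  obtain ⟨hxC, hxU⟩ := S.mem_A.1 hx
  have hrC := T.DY (S.rot_le hr)
  have hc := S.commutator_zpowers hrC hxC (U_comm ((S.mem_rot_iff hrC).1 hr) hxU)
  set c := r * x * r⁻¹ * x⁻¹ with hcdef
  have hzc : z * c * z⁻¹ = c := by rw [(y_comm_z T hc).eq, mul_inv_cancel_right]
  have hcx : Commute c x := by
    obtain ⟨n, hn⟩ := mem_zpowers_iff.1 hc
    rw [← hn]
    exact ((show Commute y x from (mem_Cy.1 hxC).symm).zpow_left n)
  have h2 : z * c * z⁻¹ = r * x⁻¹ * r⁻¹ * x := by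
    rw [hcdef, show z * (r * x * r⁻¹ * x⁻¹) * z⁻¹ =
      (z * r * z⁻¹) * (z * x * z⁻¹) * (z * r * z⁻¹)⁻¹ * (z * x * z⁻¹)⁻¹ by group, hinv,
      S.rot_fix hr, mul_inv_cancel_right, inv_inv]
  have h3 : r * x⁻¹ * r⁻¹ * x = c⁻¹ := by
    have : r * x * r⁻¹ = c * x := by rw [hcdef, inv_mul_cancel_right]
    rw [show r * x⁻¹ * r⁻¹ = (r * x * r⁻¹)⁻¹ by group, this, hcx.eq, mul_inv_rev, inv_mul_cancel_right]
  have h1 := eq_one_of_inv T hc (by rw [← h3, ← h2, hzc])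
  rw [hcdef, mul_inv_eq_one, mul_inv_eq_iff_eq_mul] at h1
  exact h1

/-- An element of `A` inverted by `z` over a given element of `W`. -/
theorem exists_inverted {w : P} (hw : w ∈ E.Wg) (hw3 : w ^ 3 = 1) :
    ∃ (x : G) (h : x ∈ Cy y), S.psi ⟨x, h⟩ = w ∧ z * x * z⁻¹ = x⁻¹ ∧ x ^ 3 = 1 := by
  obtain ⟨x0, hx0⟩ := S.surj w
  set c : ↥(Cy y) := x0 * (⟨z, T.zY⟩ * x0 * ⟨z, T.zY⟩⁻¹) with hcdef
  have hc1 : S.psi c = 1 := by
    rw [hcdef, map_mul, map_mul, map_mul, map_inv, S.psi_z, hx0, E.Wg_inv hw, mul_inv_cancel_right, mul_inv_cancel]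
  have hcY : (c : G) ∈ zpowers y := (S.ker c).1 hc1
  obtain ⟨n, hn⟩ := mem_zpowers_iff.1 hcY
  have hc3 : (c : G) ^ 3 = 1 := by
    rw [← hn, ← zpow_natCast, ← zpow_mul, mul_comm, zpow_mul, zpow_natCast, T.y_three, one_zpow]
  have hcx : Commute (c : G) x0 := by
    rw [← hn]; exact ((show Commute y (x0 : G) from (mem_Cy.1 x0.2).symm).zpow_left n)
  have hzx : z * (x0 : G) * z⁻¹ = (x0 : G)⁻¹ * c := by
    show _ = (x0 : G)⁻¹ * ((x0 : G) * (z * x0 * z⁻¹))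
    rw [inv_mul_cancel_left]
  have hinv : z * ((x0 : G) * c) * z⁻¹ = ((x0 : G) * c)⁻¹ := by
    have hc2 : (c : G) * c = (c : G)⁻¹ := eq_inv_of_mul_eq_one_left (by
      rw [← hc3, pow_succ, pow_two])
    rw [show z * ((x0 : G) * c) * z⁻¹ = (z * x0 * z⁻¹) * (z * c * z⁻¹) by group, hzx,
      (y_comm_z T hcY).eq, mul_inv_cancel_right, mul_inv_rev, mul_assoc, hc2]
    exact (hcx.inv_inv).eq.symm
  refine ⟨(x0 : G) * c, (x0 * c).2, ?_, hinv, ?_⟩
  · show S.psi (x0 * c) = w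
    rw [map_mul, hc1, mul_one, hx0]
  · have hY : ((x0 * c) ^ 3 : ↥(Cy y)).1 ∈ zpowers y := (S.ker _).1 (by rw [map_pow, map_mul, hc1, mul_one, hx0, hw3])
    change ((x0 : G) * c) ^ 3 ∈ zpowers y at hY
    refine eq_one_of_inv T hY ?_
    conv_lhs => rw [← mul_inv_cancel_right (((x0 : G) * c) ^ 3) z, ← (y_comm_z T hY).eq, ← conj_pow, hinv, inv_pow]

end Setup

end CfsgLib.SuzElem
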