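import Mathlib
import Cfsg.Agent.Lib.SuzElem.Sub

/-!
The group of order 243 is elementary abelian and self-centralizing.
-/

set_option autoImplicit false
set_option linter.style.longLine false
set_option linter.style.haveILetI false
set_option linter.unusedSectionVars false
set_option maxHeartbeats 1000000
set_option synthInstance.maxSize 8000
set_option synthInstance.maxHeartbeats 1000000

namespace CfsgLib.SuzElem

open Subgroup
open CfsgLib.SuzType
open Fin.NatCast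

variable {G : Type*} [Group G] [Finite G] {z : G} {Q : Subgroup G}
variable {P : Type} [Group P] [Finite P]

namespace Setup

variable {K : Coord z Q 1} {y : G} {T : Three K y} {E : Elem P} (S : Setup T E)

theorem rot_pow_three {r : G} (hr : r ∈ S.Rot) : r ^ 3 = 1 := by
  obtain ⟨hab, hay, hby⟩ := rot_commute T S.haS S.hbS
  obtain ⟨i, j, k, rfl⟩ := hr
  rw [((hay.pow_pow i k).mul_left (hby.pow_pow j k)).mul_pow, (hab.pow_pow i j).mul_pow, ← pow_mul, ← pow_mul,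
    ← pow_mul, mul_comm i, mul_comm j, mul_comm k, pow_mul, pow_mul, pow_mul, S.ra3, S.rb3, T.y_three, one_pow,
    one_pow, one_pow, one_mul, one_mul]

/-- An element of `C(z)` moving `y` into the rotations may be corrected to normalize their group. -/
theorem exists_norm {g : G} (hgz : g * z = z * g) (hgy : g * y * g⁻¹ ∈ S.Rot) :
    ∃ h : G, h * z = z * h ∧ h * y * h⁻¹ = g * y * g⁻¹ ∧ h ∈ normalizer (S.Rot : Set G) := by
  have h3f : Fact (Nat.Prime 3) := ⟨Nat.prime_three⟩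
  let W : Subgroup G := S.Rot.map (MulAut.conj g⁻¹).toMonoidHom
  have hW : W ≤ Dg z y := by
    rintro _ ⟨r, hr, rfl⟩
    have hgi : Commute g⁻¹ z := Commute.inv_left hgz
    refine mem_Dg.2 ⟨?_, ?_⟩
    · show (g⁻¹ * r * g⁻¹⁻¹) * z = z * (g⁻¹ * r * g⁻¹⁻¹)
      rw [inv_inv]
      exact ((hgi.mul_left (show Commute r z from (mem_Dg.1 (S.rot_le hr)).1)).mul_left hgz).eq
    · show (g⁻¹ * r * g⁻¹⁻¹) * y = y * (g⁻¹ * r * g⁻¹⁻¹)
      have hc : Commute r (g * y * g⁻¹) := S.rot_comm hr hgy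
      calc g⁻¹ * r * g⁻¹⁻¹ * y = g⁻¹ * (r * (g * y * g⁻¹)) * g := by group
        _ = g⁻¹ * ((g * y * g⁻¹) * r) * g := by rw [hc.eq]
        _ = y * (g⁻¹ * r * g⁻¹⁻¹) := by group
  have hWc : Nat.card W = 27 := by
    show Nat.card (S.Rot.map (MulAut.conj g⁻¹).toMonoidHom) = 27
    rw [card_map_of_injective (MulAut.conj g⁻¹).injective, S.card_Rot]
  have hidx : ∀ V : Subgroup G, V ≤ Dg z y → Nat.card V = 27 → ¬ 3 ∣ (V.subgroupOf (Dg z y)).index := by
    intro V hV hVc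
    have h := (V.subgroupOf (Dg z y)).card_mul_index
    rw [Nat.card_congr (subgroupOfEquivOfLe hV).toEquiv, hVc, T.card_Dg] at h
    omega
  have hp : ∀ V : Subgroup G, V ≤ Dg z y → Nat.card V = 27 → IsPGroup 3 (V.subgroupOf (Dg z y)) := fun V hV hVc =>
    IsPGroup.of_card (n := 3) (by rw [Nat.card_congr (subgroupOfEquivOfLe hV).toEquiv, hVc]; norm_num)
  obtain ⟨d, hd⟩ := MulAction.exists_smul_eq ↥(Dg z y) ((hp _ S.rot_le S.card_Rot).toSylow (hidx _ S.rot_le S.card_Rot))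
    ((hp W hW hWc).toSylow (hidx W hW hWc))
  have hdz := (mem_Dg.1 d.2).1
  have hmem : ∀ r ∈ S.Rot, g * d * r * (g * d)⁻¹ ∈ S.Rot := by
    intro r hr
    have : d * ⟨r, S.rot_le hr⟩ * d⁻¹ ∈
        (d • (hp _ S.rot_le S.card_Rot).toSylow (hidx _ S.rot_le S.card_Rot) : Sylow 3 ↥(Dg z y)) :=
      ⟨⟨r, S.rot_le hr⟩, hr, rfl⟩
    rw [hd] at this
    obtain ⟨r', hr', he⟩ : (d : G) * r * (d : G)⁻¹ ∈ W := this
    have he' : g⁻¹ * r' * g⁻¹⁻¹ = (d : G) * r * (d : G)⁻¹ := he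
    rwa [show g * d * r * (g * d)⁻¹ = g * ((d : G) * r * (d : G)⁻¹) * g⁻¹ by group, ← he', inv_inv,
      show g * (g⁻¹ * r' * g) * g⁻¹ = r' by group]
  refine ⟨g * d, (Commute.mul_left hgz hdz).eq, ?_, mem_normalizer_fintype hmem⟩
  rw [show g * d * y * (g * d)⁻¹ = g * ((d : G) * y * (d : G)⁻¹) * g⁻¹ by group, (mem_Dg.1 d.2).2,
    mul_inv_cancel_right]

theorem pow_inter {i k : ℕ} (h : S.ra ^ i = y ^ k) : y ^ k = 1 := by
  have e1 := rotGroup_act T S.haS S.haa S.hbS S.hba S.ra3 S.rb3 i 0 0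
  have e2 := rotGroup_act T S.haS S.haa S.hbS S.hba S.ra3 S.rb3 0 0 k
  rw [pow_zero, pow_zero, mul_one, mul_one] at e1
  rw [pow_zero, pow_zero, one_mul, one_mul, ← h, e1] at e2
  have h' := pmap_inj e2
  have hk : ((0 : ℕ) : Fin 3) = (k : Fin 3) := congrArg (fun p : Par => p.2.2.1) h'
  rw [← pow_mod_three T.y_three k, ← hk, Nat.cast_zero, Fin.val_zero, pow_zero]

/-- A member of `C(z)` normalizing the rotations and moving `y` to a rotation of the first plane. -/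
theorem exists_move : ∃ h : G, h * z = z * h ∧ h ∈ normalizer (S.Rot : Set G) ∧ h * y * h⁻¹ ∈ zpowers S.ra := by
  obtain ⟨⟨hq, hlen, k, hk⟩, -⟩ := swap_facts
  obtain ⟨g, hgz, hg⟩ := T.exists_conj_rot sideA S.haS S.haa S.ra3 LA hq hlen k hk
  obtain ⟨h, h1, h2, h3⟩ := S.exists_norm hgz (zpowers_le.2 S.ra_mem hg)
  exact ⟨h, h1, h3, h2 ▸ hg⟩

/-- The first element inverted by `z`. -/
noncomputable def x1 : G := (S.exists_inverted E.w1_mem E.w1_pow_three).choose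
/-- The second element inverted by `z`. -/
noncomputable def x2 : G := (S.exists_inverted E.w2_mem E.w2_pow_three).choose

theorem x1_spec : ∃ h : S.x1 ∈ Cy y, S.psi ⟨S.x1, h⟩ = E.w1 ∧ z * S.x1 * z⁻¹ = S.x1⁻¹ ∧ S.x1 ^ 3 = 1 :=
  (S.exists_inverted E.w1_mem E.w1_pow_three).choose_spec
theorem x2_spec : ∃ h : S.x2 ∈ Cy y, S.psi ⟨S.x2, h⟩ = E.w2 ∧ z * S.x2 * z⁻¹ = S.x2⁻¹ ∧ S.x2 ^ 3 = 1 :=
  (S.exists_inverted E.w2_mem E.w2_pow_three).choose_spec

theorem x1_mem : S.x1 ∈ S.A := by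
  obtain ⟨h, he, -, -⟩ := S.x1_spec
  exact S.mem_A.2 ⟨h, he ▸ E.Wg_le_U E.w1_mem⟩

theorem x2_mem : S.x2 ∈ S.A := by
  obtain ⟨h, he, -, -⟩ := S.x2_spec
  exact S.mem_A.2 ⟨h, he ▸ E.Wg_le_U E.w2_mem⟩

theorem decomp {x : G} (hx : x ∈ S.A) : ∃ r ∈ S.Rot, ∃ k l : ℕ, x = r * (S.x1 ^ k * S.x2 ^ l) := by
  obtain ⟨hxC, u, hu, v, ⟨k, l, rfl⟩, he⟩ := S.mem_A.1 hx
  obtain ⟨h1, e1, -, -⟩ := S.x1_spec
  obtain ⟨h2, e2, -, -⟩ := S.x2_spec
  set c : ↥(Cy y) := ⟨x, hxC⟩ * ((⟨S.x1, h1⟩ : ↥(Cy y)) ^ k * (⟨S.x2, h2⟩ : ↥(Cy y)) ^ l)⁻¹ with hc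
  have hcR : (c : G) ∈ S.Rot := by
    refine (S.mem_rot_iff c.2).2 ?_
    show S.psi c ∈ E.AB
    rw [hc, map_mul, map_inv, map_mul, map_pow, map_pow, e1, e2, he, mul_inv_cancel_right]
    exact hu
  refine ⟨c, hcR, k, l, ?_⟩
  show x = x * (S.x1 ^ k * S.x2 ^ l)⁻¹ * (S.x1 ^ k * S.x2 ^ l)
  rw [inv_mul_cancel_right]

theorem rot_comm_A {r x : G} (hr : r ∈ S.Rot) (hx : x ∈ S.A) : Commute r x := by
  obtain ⟨r', hr', k, l, rfl⟩ := S.decomp hx
  exact (S.rot_comm hr hr').mul_right (((S.sign hr S.x1_mem S.x1_spec.2.2.1).pow_right k).mul_right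
    ((S.sign hr S.x2_mem S.x2_spec.2.2.1).pow_right l))

theorem A_le_cent : S.A ≤ centralizer (S.Rot : Set G) := fun _ hx =>
  mem_centralizer_iff.2 fun _ hr => (S.rot_comm_A hr hx).eq

theorem cent_le : centralizer (S.Rot : Set G) ≤ Cy y := fun _ hc =>
  mem_Cy.2 (mem_centralizer_iff.1 hc y S.y_mem).symm

theorem psi_cent {c : G} (hc : c ∈ centralizer (S.Rot : Set G)) :
    Commute (S.psi ⟨c, S.cent_le hc⟩) E.a ∧ Commute (S.psi ⟨c, S.cent_le hc⟩) E.b := by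
  have key : ∀ u ∈ E.AB, Commute (S.psi ⟨c, S.cent_le hc⟩) u := by
    intro u hu
    obtain ⟨r, rfl⟩ := S.surj u
    have hr : (r : G) ∈ S.Rot := (S.mem_rot_iff r.2).2 hu
    show _ * _ = _ * _
    rw [← map_mul, ← map_mul]
    exact congrArg S.psi (Subtype.ext (mem_centralizer_iff.1 hc r hr).symm)
  exact ⟨key _ E.a_mem, key _ E.b_mem⟩

theorem mem_A_of_cube {c : G} (hc : c ∈ centralizer (S.Rot : Set G)) (h3 : (S.psi ⟨c, S.cent_le hc⟩) ^ 3 = 1) : c ∈ S.A := by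
  obtain ⟨ha, hb⟩ := S.psi_cent hc
  obtain ⟨i, j, k, l, he⟩ := E.cent_mem _ ha hb h3
  exact S.mem_A.2 ⟨S.cent_le hc, _, ⟨_, _, rfl⟩, _, ⟨_, _, rfl⟩, he⟩

theorem A_comm {x x' : G} (hx : x ∈ S.A) (hx' : x' ∈ S.A) : Commute x x' := by
  have hpair : Commute S.x1 S.x2 := by
    obtain ⟨h, hhz, hhN, hhy⟩ := S.exists_move
    have back : ∀ w : G, w ∈ S.A → w ^ 3 = 1 → h⁻¹ * w * h ∈ S.A := by
      intro w hw h3
      have hc : h⁻¹ * w * h ∈ centralizer (S.Rot : Set G) := mem_centralizer_iff.2 fun r hr => by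
        have hc' := (S.rot_comm_A ((mem_normalizer_iff.1 hhN r).1 hr) hw).eq
        calc r * (h⁻¹ * w * h) = h⁻¹ * ((h * r * h⁻¹) * w) * h := by group
          _ = h⁻¹ * (w * (h * r * h⁻¹)) * h := by rw [hc']
          _ = _ := by group
      refine S.mem_A_of_cube hc ?_
      rw [← map_pow]
      refine (congrArg S.psi (Subtype.ext ?_)).trans (map_one S.psi)
      show (h⁻¹ * w * h) ^ 3 = 1
      rw [show h⁻¹ * w * h = h⁻¹ * w * h⁻¹⁻¹ by rw [inv_inv], conj_pow, h3, mul_one, mul_inv_cancel]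
    have hcomm : ∀ u ∈ E.U, ∀ v ∈ E.U, Commute u v := by
      intro u hu v hv
      obtain ⟨u1, hu1, u2, ⟨i, j, rfl⟩, rfl⟩ := hu
      refine (U_comm hu1 hv).mul_left ?_
      obtain ⟨v1, hv1, v2, ⟨i', j', rfl⟩, rfl⟩ := hv
      refine ((E.AB_comm hv1 ⟨i, j, rfl⟩).symm).mul_right ?_
      exact (((Commute.refl E.w1).pow_pow i i').mul_right (E.w12.pow_pow i j')).mul_left
        ((E.w12.symm.pow_pow j i').mul_right ((Commute.refl E.w2).pow_pow j j'))
    obtain ⟨h1, hU1⟩ := S.mem_A.1 S.x1_mem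
    obtain ⟨h2, hU2⟩ := S.mem_A.1 S.x2_mem
    obtain ⟨k1, hV1⟩ := S.mem_A.1 (back _ S.x1_mem S.x1_spec.2.2.2)
    obtain ⟨k2, hV2⟩ := S.mem_A.1 (back _ S.x2_mem S.x2_spec.2.2.2)
    have hc := S.commutator_zpowers h1 h2 (hcomm _ hU1 _ hU2)
    have hd := S.commutator_zpowers k1 k2 (hcomm _ hV1 _ hV2)
    set c := S.x1 * S.x2 * S.x1⁻¹ * S.x2⁻¹ with hcdef
    have hcd : h⁻¹ * c * h ∈ zpowers y := by
      rw [hcdef]
      convert hd using 1
      group
    obtain ⟨n, hn⟩ := mem_zpowers_iff.1 hcd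
    have hcra : c ∈ zpowers S.ra := by
      rw [show c = h * (h⁻¹ * c * h) * h⁻¹ by group, ← hn, show h * y ^ n * h⁻¹ = (MulAut.conj h) (y ^ n) from rfl, map_zpow]
      exact zpow_mem hhy _
    obtain ⟨k, hk⟩ := T.zpow_cases hc
    obtain ⟨i, hi⟩ := (isOfFinOrder_of_finite S.ra).mem_powers_iff_mem_zpowers.2 hcra
    have : c = 1 := by rw [hk]; exact S.pow_inter (i := i) (hi.trans hk)
    rw [hcdef, mul_inv_eq_one, mul_inv_eq_iff_eq_mul] at this
    exact this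
  obtain ⟨r, hr, k, l, rfl⟩ := S.decomp hx
  obtain ⟨r', hr', k', l', rfl⟩ := S.decomp hx'
  refine Commute.mul_left (S.rot_comm_A hr hx') ?_
  refine Commute.mul_right (S.rot_comm_A hr' (mul_mem (pow_mem S.x1_mem k) (pow_mem S.x2_mem l))).symm ?_
  exact (((Commute.refl S.x1).pow_pow k k').mul_right (hpair.pow_pow k l')).mul_left
    ((hpair.symm.pow_pow l k').mul_right ((Commute.refl S.x2).pow_pow l l'))

theorem A_pow_three {x : G} (hx : x ∈ S.A) : x ^ 3 = 1 := by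
  obtain ⟨r, hr, k, l, rfl⟩ := S.decomp hx
  rw [(S.A_comm (S.rot_le_A hr) (mul_mem (pow_mem S.x1_mem k) (pow_mem S.x2_mem l))).mul_pow,
    ((S.A_comm S.x1_mem S.x2_mem).pow_pow k l).mul_pow, ← pow_mul, ← pow_mul, mul_comm k, mul_comm l, pow_mul,
    pow_mul, S.x1_spec.2.2.2, S.x2_spec.2.2.2, S.rot_pow_three hr, one_pow, one_pow, one_mul, one_mul]

theorem z_cent : z ∈ centralizer (S.Rot : Set G) := mem_centralizer_iff.2 fun _ hr => (S.rot_fix hr).symm

theorem z_not_mem : z ∉ S.A := fun h => by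
  have h3 := S.A_pow_three h
  rw [pow_succ, pow_two, Coord.zz T.hyp, one_mul] at h3
  exact T.hyp.extra.ne_one h3

theorem z_inv_A {x : G} (hx : x ∈ S.A) : z * x * z⁻¹ ∈ S.A := by
  obtain ⟨r, hr, k, l, rfl⟩ := S.decomp hx
  rw [show z * (r * (S.x1 ^ k * S.x2 ^ l)) * z⁻¹ = (z * r * z⁻¹) * ((z * S.x1 * z⁻¹) ^ k * (z * S.x2 * z⁻¹) ^ l) by
    rw [conj_pow, conj_pow]; group, S.rot_fix hr, mul_inv_cancel_right, S.x1_spec.2.2.1, S.x2_spec.2.2.1]
  exact mul_mem (S.rot_le_A hr) (mul_mem (pow_mem (inv_mem S.x1_mem) _) (pow_mem (inv_mem S.x2_mem) _))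

/-- The centralizer of the rotations is `A` extended by `z`. -/
theorem cent_cases {c : G} (hc : c ∈ centralizer (S.Rot : Set G)) : c ∈ S.A ∨ c * z ∈ S.A := by
  have h3f : Fact (Nat.Prime 3) := ⟨Nat.prime_three⟩
  have h2f : Fact (Nat.Prime 2) := ⟨Nat.prime_two⟩
  set CE := centralizer (S.Rot : Set G) with hCE
  have hexp : ∀ g : ↥CE, (g : G) ^ 72 = 1 := by
    intro g
    obtain ⟨ha, hb⟩ := S.psi_cent g.2
    have h24 := E.cent_pow _ ha hb
    rw [← map_pow] at h24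
    have hY := (S.ker _).1 h24
    change (g : G) ^ 24 ∈ zpowers y at hY
    obtain ⟨k, hk⟩ := T.zpow_cases hY
    rw [show 72 = 24 * 3 from rfl, pow_mul, hk, ← pow_mul, mul_comm, pow_mul, T.y_three, one_pow]
  have hthree : ∀ g : ↥CE, (∃ k : ℕ, g ^ 3 ^ k = 1) → (g : G) ∈ S.A := by
    rintro g ⟨k, hk⟩
    refine S.mem_A_of_cube g.2 ?_
    obtain ⟨ha, hb⟩ := S.psi_cent g.2
    have h1 := orderOf_dvd_of_pow_eq_one (E.cent_pow _ ha hb)
    have h2 : orderOf (S.psi ⟨(g : G), S.cent_le g.2⟩) ∣ 3 ^ k := orderOf_dvd_of_pow_eq_one (by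
      rw [← map_pow]
      exact (congrArg S.psi (Subtype.ext (congrArg (fun u : ↥CE => (u : G)) hk))).trans (map_one _))
    obtain ⟨m, -, hm⟩ := (Nat.dvd_prime_pow Nat.prime_three).1 h2
    refine orderOf_dvd_iff_pow_eq_one.1 ?_
    rw [hm] at h1 ⊢
    have : m ≤ 1 := by
      by_contra hm1
      push Not at hm1
      have := (pow_dvd_pow 3 hm1).trans h1
      norm_num at this
    calc 3 ^ m ∣ 3 ^ 1 := pow_dvd_pow 3 this
      _ = 3 := pow_one 3
  have htwo : ∀ R : Subgroup ↥CE, IsPGroup 2 R → Nat.card R ∣ 2 := by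
    intro R hR
    obtain ⟨S2, hS2⟩ := hR.exists_le_sylow
    have hz2 : orderOf (⟨z, S.z_cent⟩ : ↥CE) = 2 := by rw [orderOf_mk]; exact T.hyp.hz
    have hzz : (⟨z, S.z_cent⟩ : ↥CE) ^ (2 : ℤ) = 1 := by
      rw [show (2 : ℤ) = ((2 : ℕ) : ℤ) from rfl, zpow_natCast]
      have := pow_orderOf_eq_one (⟨z, S.z_cent⟩ : ↥CE)
      rwa [hz2] at this
    obtain ⟨S1, hS1⟩ := (IsPGroup.of_card (p := 2) (G := zpowers (⟨z, S.z_cent⟩ : ↥CE)) (n := 1)
      (by rw [Nat.card_zpowers, hz2, pow_one])).exists_le_sylow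
    have hzS : (⟨z, S.z_cent⟩ : ↥CE) ∈ (S1 : Subgroup ↥CE) := hS1 (mem_zpowers _)
    have hfix : ∀ p : ↥CE, p ∈ (S1 : Subgroup ↥CE) → (p : G) * z = z * p → p ∈ zpowers (⟨z, S.z_cent⟩ : ↥CE) := by
      intro p hp hpz
      have hpD : (p : G) ∈ Dg z y := mem_Dg.2 ⟨hpz, mem_Cy.1 (S.cent_le p.2)⟩
      have hcases := cent_rot T S.haS S.haa S.hbS S.hba S.ra3 S.rb3 hpD
        (mem_centralizer_iff.1 p.2 _ S.ra_mem).symm (mem_centralizer_iff.1 p.2 _ S.rb_mem).symm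
      obtain ⟨m, hm⟩ := S1.isPGroup' ⟨p, hp⟩
      have hm' : (p : G) ^ 2 ^ m = 1 := congrArg (fun u : (S1 : Subgroup ↥CE) => ((u : ↥CE) : G)) hm
      rcases hcases with h | h
      · have h3 := S.rot_pow_three h
        have hd := Nat.dvd_gcd (orderOf_dvd_of_pow_eq_one hm') (orderOf_dvd_of_pow_eq_one h3)
        rw [Nat.Coprime.pow_left m (by norm_num : Nat.Coprime 2 3)] at hd
        rw [show p = 1 from Subtype.ext (orderOf_eq_one_iff.1 (Nat.dvd_one.1 hd))]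
        exact one_mem _
      · have h3 := S.rot_pow_three h
        obtain ⟨j, hj⟩ := S1.isPGroup' ⟨p * ⟨z, S.z_cent⟩, mul_mem hp hzS⟩
        have hj' : ((p : G) * z) ^ 2 ^ j = 1 := congrArg (fun u : (S1 : Subgroup ↥CE) => ((u : ↥CE) : G)) hj
        have hd := Nat.dvd_gcd (orderOf_dvd_of_pow_eq_one hj') (orderOf_dvd_of_pow_eq_one h3)
        rw [Nat.Coprime.pow_left j (by norm_num : Nat.Coprime 2 3)] at hd
        refine mem_zpowers_iff.2 ⟨-1, Subtype.ext ?_⟩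
        rw [zpow_neg_one]
        exact (eq_inv_of_mul_eq_one_left (orderOf_eq_one_iff.1 (Nat.dvd_one.1 hd))).symm
    have hS1c : Nat.card (S1 : Subgroup ↥CE) ∣ 2 := by
      have hnt : Nontrivial (S1 : Subgroup ↥CE) := ⟨⟨⟨_, hzS⟩, 1, fun h => by
        have := congrArg (fun u : (S1 : Subgroup ↥CE) => ((u : ↥CE) : G)) h
        exact T.hyp.extra.ne_one this⟩⟩
      have hcnt := S1.isPGroup'.center_nontrivial
      obtain ⟨c0, hc0⟩ := exists_ne (1 : center (S1 : Subgroup ↥CE))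
      have hcomm := congrArg (fun u : (S1 : Subgroup ↥CE) => ((u : ↥CE) : G))
        (mem_center_iff.1 c0.2 ⟨_, hzS⟩)
      have hc0z := hfix _ (c0 : (S1 : Subgroup ↥CE)).2 hcomm.symm
      have hzcen : ∀ p ∈ (S1 : Subgroup ↥CE), (p : G) * z = z * p := by
        intro p hp
        have hne : ((c0 : (S1 : Subgroup ↥CE)) : ↥CE) ≠ 1 := fun h => hc0 (Subtype.ext (Subtype.ext h))
        obtain ⟨n, hn⟩ := mem_zpowers_iff.1 hc0z
        have hcz : ((c0 : (S1 : Subgroup ↥CE)) : ↥CE) = ⟨z, S.z_cent⟩ := by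
          rw [← hn]
          rcases Int.even_or_odd n with ⟨j, rfl⟩ | ⟨j, rfl⟩
          · refine absurd ?_ hne
            rw [← hn, ← two_mul, zpow_mul, hzz, one_zpow]
          · rw [zpow_add, zpow_mul, hzz, one_zpow, one_mul, zpow_one]
        have := congrArg (fun u : (S1 : Subgroup ↥CE) => ((u : ↥CE) : G)) (mem_center_iff.1 c0.2 ⟨p, hp⟩)
        change (p : G) * ((c0 : (S1 : Subgroup ↥CE)) : ↥CE) = ((c0 : (S1 : Subgroup ↥CE)) : ↥CE) * (p : G) at this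
        rwa [hcz] at this
      calc Nat.card (S1 : Subgroup ↥CE) ∣ Nat.card (zpowers (⟨z, S.z_cent⟩ : ↥CE)) :=
            card_dvd_of_le fun p hp => hfix p hp (hzcen p hp)
        _ = 2 := by rw [Nat.card_zpowers, hz2]
    have := card_dvd_of_le hS2
    rw [S2.card_eq_multiplicity, ← S1.card_eq_multiplicity] at this
    exact this.trans hS1c
  have hCE' : Nat.card ↥CE ∣ 486 := by
    refine (Nat.dvd_iff_prime_pow_dvd_dvd _ _).2 fun p k hp hdvd => ?_
    rcases Nat.eq_zero_or_pos k with rfl | hk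
    · simp
    have hpf : Fact p.Prime := ⟨hp⟩
    obtain ⟨R, hR⟩ := Sylow.exists_subgroup_card_pow_prime p hdvd
    have hRp : IsPGroup p R := IsPGroup.of_card hR
    rcases eq_or_ne p 3 with rfl | h3
    · have hsub : R.map CE.subtype ≤ S.A := by
        rintro _ ⟨g, hg, rfl⟩
        obtain ⟨m, hm⟩ := hRp ⟨g, hg⟩
        exact hthree g ⟨m, congrArg Subtype.val hm⟩
      have := card_dvd_of_le hsub
      rw [card_map_of_injective CE.subtype_injective, hR, S.card_A] at this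
      exact this.trans (by norm_num)
    rcases eq_or_ne p 2 with rfl | h2
    · have := htwo R hRp
      rw [hR] at this
      exact this.trans (by norm_num)
    exfalso
    obtain ⟨g, hg⟩ := exists_prime_orderOf_dvd_card' (G := ↥CE) p
      ((dvd_pow_self p hk.ne').trans hdvd)
    have hd : p ∣ 2 ^ 3 * 3 ^ 2 := by
      rw [← hg, ← orderOf_coe]
      exact orderOf_dvd_of_pow_eq_one (hexp g)
    rcases (Nat.Prime.dvd_mul hp).1 hd with h | h
    · exact h2 ((Nat.prime_dvd_prime_iff_eq hp Nat.prime_two).1 (hp.dvd_of_dvd_pow h))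
    · exact h3 ((Nat.prime_dvd_prime_iff_eq hp Nat.prime_three).1 (hp.dvd_of_dvd_pow h))
  have hidx : (S.A.subgroupOf CE).index = 2 := by
    have h := (S.A.subgroupOf CE).card_mul_index
    rw [Nat.card_congr (subgroupOfEquivOfLe S.A_le_cent).toEquiv, S.card_A] at h
    have hle : (S.A.subgroupOf CE).index ∣ 2 := by
      obtain ⟨m, hm⟩ := hCE'
      refine Dvd.intro m (Nat.eq_of_mul_eq_mul_left (show 0 < 243 by norm_num) ?_)
      rw [← mul_assoc, h, ← hm]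
    rcases (Nat.dvd_prime Nat.prime_two).1 hle with h1 | h1
    · exfalso
      have htop := index_eq_one.1 h1
      exact S.z_not_mem (show (⟨z, S.z_cent⟩ : ↥CE) ∈ S.A.subgroupOf CE by rw [htop]; exact mem_top _)
    · exact h1
  have key := mul_mem_iff_of_index_two hidx (a := (⟨c, hc⟩ : ↥CE)) (b := ⟨z, S.z_cent⟩)
  rw [mem_subgroupOf, mem_subgroupOf, mem_subgroupOf] at key
  by_cases hA : c ∈ S.A
  · exact Or.inl hA
  · exact Or.inr (key.2 (iff_of_false hA S.z_not_mem))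

theorem centralizer_A : centralizer (S.A : Set G) = S.A := by
  refine le_antisymm (fun c hc => ?_) fun x hx => mem_centralizer_iff.2 fun w hw => (S.A_comm hw hx).eq
  have hcR : c ∈ centralizer (S.Rot : Set G) := mem_centralizer_iff.2 fun r hr =>
    mem_centralizer_iff.1 hc r (S.rot_le_A hr)
  rcases S.cent_cases hcR with h | h
  · exact h
  exfalso
  obtain ⟨hx, hw, hinv, h3⟩ := S.x1_spec
  have hz : Commute S.x1 z := by
    have h' : Commute S.x1 (c * z) := S.A_comm S.x1_mem h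
    have hci : Commute S.x1 c⁻¹ := (show Commute S.x1 c from mem_centralizer_iff.1 hc _ S.x1_mem).inv_right
    simpa using hci.mul_right h'
  rw [hz.symm.eq, mul_inv_cancel_right] at hinv
  have h2 : S.x1 * S.x1 = 1 := by nth_rewrite 2 [hinv]; exact mul_inv_cancel _
  rw [pow_succ, pow_two, h2, one_mul] at h3
  have hx1 : S.psi ⟨S.x1, hx⟩ = 1 := (congrArg S.psi (Subtype.ext h3)).trans (map_one _)
  rw [hw] at hx1
  obtain ⟨-, -, h, -⟩ := E.inj 0 0 1 0 (by simp [hx1])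
  exact absurd h (by decide)

theorem normalizer_rot_le : normalizer (S.Rot : Set G) ≤ normalizer (S.A : Set G) := by
  intro n hn
  refine mem_normalizer_fintype fun x hx => ?_
  have hc : n * x * n⁻¹ ∈ centralizer (S.Rot : Set G) := mem_centralizer_iff.2 fun r hr => by
    have hr' : n⁻¹ * r * n ∈ S.Rot := (mem_normalizer_iff''.1 hn r).1 hr
    calc r * (n * x * n⁻¹) = n * ((n⁻¹ * r * n) * x) * n⁻¹ := by group
      _ = n * (x * (n⁻¹ * r * n)) * n⁻¹ := by rw [(S.rot_comm_A hr' hx).eq]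
      _ = _ := by group
  refine S.mem_A_of_cube hc ?_
  rw [← map_pow]
  refine (congrArg S.psi (Subtype.ext ?_)).trans (map_one _)
  show (n * x * n⁻¹) ^ 3 = 1
  rw [conj_pow, S.A_pow_three hx, mul_one, mul_inv_cancel]

end Setup

end CfsgLib.SuzElem
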