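import Mathlib
import Cfsg.Agent.Lib.SuzElem.Sub

/-!
The map of `C(y)` matching the rotations with the pair `a, b`.
-/

set_option autoImplicit false
set_option linter.style.longLine false
set_option linter.style.haveILetI false
set_option linter.unusedSectionVars false
set_option maxHeartbeats 1000000
set_option synthInstance.maxSize 8000
set_option synthInstance.maxHeartbeats 1000000

namespace CfsgLib.SuzElem

open Subgroup
open CfsgLib.SuzType

variable {G : Type*} [Group G] [Finite G] {z : G} {Q : Subgroup G}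
variable {P : Type} [Group P] [Finite P]

theorem exists_setup {K : Coord z Q 1} {y : G} (T : Three K y) (iso : (↥(Cy y) ⧸ Zy y) ≃* P) (E : Elem P)
    (hcls : ∀ u v : ↥(Cy y) ⧸ Zy y, orderOf u = 2 → orderOf v = 2 → IsConj u v) : Nonempty (Setup T E) := by
  have h3f : Fact (Nat.Prime 3) := ⟨Nat.prime_three⟩
  have h2f : Fact (Nat.Prime 2) := ⟨Nat.prime_two⟩
  have hs : orderOf (iso.symm E.s) = 2 := by
    rw [MulEquiv.orderOf_eq]
    exact orderOf_eq_prime (by rw [pow_two, E.s_sq]) E.s_ne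
  obtain ⟨g, hg⟩ := isConj_iff.1 (hcls T.zb _ T.zb_ord hs)
  -- move the image of `z` to `s`
  let θ : (↥(Cy y) ⧸ Zy y) ≃* P := (MulAut.conj g).trans iso
  have hθz : θ T.zb = E.s := by
    show iso (g * T.zb * g⁻¹) = E.s
    rw [hg, MulEquiv.apply_symm_apply]
  let ψ1 : ↥(Cy y) →* P := θ.toMonoidHom.comp (piY y)
  have hψ1k : ∀ c, ψ1 c = 1 ↔ (c : G) ∈ zpowers y := fun c => by
    show θ (piY y c) = 1 ↔ _
    rw [θ.map_eq_one_iff]
    exact QuotientGroup.eq_one_iff c
  have hC : Nat.card ↥(centralizer ({E.s} : Set P)) = 1152 := by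
    have := T.card_cz
    rw [Nat.card_congr (Equiv.subtypeEquiv θ.toEquiv fun u => ?_)] at this
    · exact this
    · rw [mem_centralizer_singleton_iff, mem_centralizer_singleton_iff, ← hθz]
      show _ ↔ θ u * θ T.zb = θ T.zb * θ u
      rw [← map_mul, ← map_mul, θ.injective.eq_iff]
  obtain ⟨ra, haS, haa, ha3⟩ := T.exists_rot sideA
  obtain ⟨rb, hbS, hba, hb3⟩ := T.exists_rot sideB
  let R := rotGroup T haS hbS ha3 hb3
  have hRD : R ≤ Dg z y := rotGroup_le T haS hbS ha3 hb3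
  have hRC : R ≤ Cy y := fun r hr => T.DY (hRD hr)
  let W : Subgroup P := (R.subgroupOf (Cy y)).map ψ1
  have hW : W ≤ centralizer ({E.s} : Set P) := by
    rintro _ ⟨r, hr, rfl⟩
    rw [mem_centralizer_singleton_iff, ← hθz]
    show ψ1 r * ψ1 ⟨z, T.zY⟩ = ψ1 ⟨z, T.zY⟩ * ψ1 r
    rw [← map_mul, ← map_mul]
    exact congrArg ψ1 (Subtype.ext (mem_Dg.1 (hRD hr)).1)
  have hWc : Nat.card W = 9 := by
    let f := ψ1.subgroupMap (R.subgroupOf (Cy y))
    have hf : Function.Surjective f := ψ1.subgroupMap_surjective _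
    have h := card_eq_card_quotient_mul_card_subgroup f.ker
    rw [Nat.card_congr (QuotientGroup.quotientKerEquivOfSurjective f hf).toEquiv,
      Nat.card_congr (subgroupOfEquivOfLe hRC).toEquiv, card_rotGroup T haS haa hbS hba ha3 hb3] at h
    have hk : Nat.card f.ker = 3 := by
      rw [← T.ord, ← Nat.card_zpowers]
      refine Nat.card_congr ⟨fun c => ⟨c.1.1.1, (hψ1k c.1.1).1 (congrArg Subtype.val c.2)⟩,
        fun c => ⟨⟨⟨c.1, mem_Cy.2 ?_⟩, ?_⟩, ?_⟩, fun c => rfl, fun c => rfl⟩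
      · obtain ⟨n, hn⟩ := mem_zpowers_iff.1 c.2
        rw [← hn]
        exact ((Commute.refl y).zpow_left n).eq
      · show (c : G) ∈ R
        exact (zpowers_le.2 (show y ∈ R from ⟨0, 0, 1, by simp⟩)) c.2
      · exact Subtype.ext ((hψ1k _).2 c.2)
    rw [hk] at h
    change 27 = Nat.card ↥W * 3 at h
    omega
  have hAB : E.AB ≤ centralizer ({E.s} : Set P) := fun u hu => mem_centralizer_singleton_iff.2 (E.AB_fixed hu).symm.eq
  have hidx : ∀ V : Subgroup P, V ≤ centralizer ({E.s} : Set P) → Nat.card V = 9 →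
      ¬ 3 ∣ (V.subgroupOf (centralizer ({E.s} : Set P))).index := by
    intro V hV hVc
    have h := (V.subgroupOf (centralizer ({E.s} : Set P))).card_mul_index
    rw [Nat.card_congr (subgroupOfEquivOfLe hV).toEquiv, hVc, hC] at h
    omega
  have hp : ∀ V : Subgroup P, V ≤ centralizer ({E.s} : Set P) → Nat.card V = 9 →
      IsPGroup 3 (V.subgroupOf (centralizer ({E.s} : Set P))) := fun V hV hVc =>
    IsPGroup.of_card (n := 2) (by rw [Nat.card_congr (subgroupOfEquivOfLe hV).toEquiv, hVc]; norm_num)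
  obtain ⟨v, hv⟩ := MulAction.exists_smul_eq ↥(centralizer ({E.s} : Set P))
    ((hp W hW hWc).toSylow (hidx W hW hWc)) ((hp _ hAB E.card_AB).toSylow (hidx _ hAB E.card_AB))
  let ψ : ↥(Cy y) →* P := (MulAut.conj (v : P)).toMonoidHom.comp ψ1
  have hker : ∀ c, ψ c = 1 ↔ (c : G) ∈ zpowers y := fun c => by
    rw [← hψ1k]
    exact (MulAut.conj (v : P)).map_eq_one_iff
  have himg : ∀ c : ↥(Cy y), (c : G) ∈ R → ψ c ∈ E.AB := by
    intro c hc
    have hcW : ψ1 c ∈ W := ⟨c, hc, rfl⟩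
    have h : v * ⟨ψ1 c, hW hcW⟩ * v⁻¹ ∈
        (v • (hp W hW hWc).toSylow (hidx W hW hWc) : Sylow 3 ↥(centralizer ({E.s} : Set P))) :=
      ⟨⟨ψ1 c, hW hcW⟩, hcW, rfl⟩
    rw [hv] at h
    exact h
  have hsurj : Function.Surjective ψ :=
    (MulAut.conj (v : P)).surjective.comp (θ.surjective.comp (QuotientGroup.mk'_surjective _))
  refine ⟨{ ra := ra, rb := rb, haS := haS, haa := haa, ra3 := ha3, hbS := hbS, hba := hba, rb3 := hb3
            psi := ψ, surj := hsurj, ker := hker, psi_z := ?_, rot_iff := fun c => ⟨fun hc => ?_, himg c⟩ }⟩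
  · show (v : P) * θ T.zb * (v : P)⁻¹ = E.s
    rw [hθz, mem_centralizer_singleton_iff.1 v.2, mul_inv_cancel_right]
  · have hsub : E.AB ≤ (R.subgroupOf (Cy y)).map ψ := by
      refine le_of_eq (eq_of_le_of_card_ge ?_ ?_).symm
      · rintro _ ⟨r, hr, rfl⟩
        exact himg r hr
      · rw [E.card_AB]
        show 9 ≤ Nat.card ((R.subgroupOf (Cy y)).map ((MulAut.conj (v : P)).toMonoidHom.comp ψ1))
        rw [← map_map, card_map_of_injective (MulAut.conj (v : P)).injective]
        exact hWc.ge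
    obtain ⟨r, hr, hre⟩ := hsub hc
    have hd : ψ (r⁻¹ * c) = 1 := by rw [map_mul, map_inv, hre, inv_mul_cancel]
    have hY := (hker _).1 hd
    change (r : G)⁻¹ * (c : G) ∈ zpowers y at hY
    have : (c : G) ∈ R := by
      rw [← mul_inv_cancel_left (r : G) c]
      exact mul_mem hr ((zpowers_le.2 (show y ∈ R from ⟨0, 0, 1, by simp⟩)) hY)
    exact this

end CfsgLib.SuzElem
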