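import Mathlib
import Cfsg.Agent.Lib.GL23.PSL33.Simple
import Cfsg.Agent.Lib.Involutions.BrauerSuzuki
import Cfsg.Agent.Lib.PCore.Basic

/-!
A group with an involution whose centralizer is `GL(2, 3)`: either it has no subgroup of index two, or it
is the product of that centralizer with an abelian group of odd order inverted by the involution, on which
no prime occurs exactly once.
-/

set_option autoImplicit false
set_option linter.style.longLine false
set_option maxHeartbeats 1000000
set_option linter.style.haveILetI false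

namespace CfsgLib.SuzElem

open Subgroup
open CfsgLib.GL23 CfsgLib.GL23.PSL33

/-- An element of order four not commuting with the monomial one. -/
def mR : M := ⟨!![1, 1; 1, 2], !![2, 2; 2, 1], by decide +kernel, by decide +kernel⟩

theorem quat_rel : mW * mR * mW⁻¹ * mR⁻¹ = mH := by decide +kernel

theorem det_one_squares : ∀ x ∈ gl, tdet x = 1 → ∃ y ∈ gl, ∃ w ∈ gl, tmul (tmul y y) (tmul w w) = x := by
  decide +kernel

theorem det_mul_two : ∀ x ∈ gl, ∀ y ∈ gl, tdet x ≠ 1 → tdet y ≠ 1 → tdet (tmul x y) = 1 := by decide +kernel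

theorem det_one_involution : ∀ x ∈ gl, tdet x = 1 → tmul x x = (1, 0, 0, 1) → x ≠ (1, 0, 0, 1) → x = (2, 0, 0, 2) := by
  decide +kernel

variable {G : Type*} [Group G] [Finite G] {t : G}

theorem exists_index_two (h : Cfsg.pResidual 2 G ≠ ⊤) : ∃ H : Subgroup G, H.index = 2 := by
  have h2 : Fact (Nat.Prime 2) := ⟨Nat.prime_two⟩
  have hn := CfsgLib.Transfer.pResidual_normal (G := G) (p := 2)
  have hp := CfsgLib.Transfer.isPGroup_quotient_of_pResidual_le (p := 2) (Cfsg.pResidual 2 G) le_rfl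
  obtain ⟨k, hk⟩ := IsPGroup.iff_card.1 hp
  obtain ⟨j, rfl⟩ : ∃ j, k = j + 1 := Nat.exists_eq_succ_of_ne_zero fun e => h (index_eq_one.1 (by
    rw [index_eq_card, hk, e, pow_zero]))
  obtain ⟨S, hS⟩ := Sylow.exists_subgroup_card_pow_prime (G := G ⧸ Cfsg.pResidual 2 G) 2 (n := j)
    (by rw [hk]; exact pow_dvd_pow _ (by omega))
  refine ⟨S.comap (QuotientGroup.mk' _), ?_⟩
  rw [index_comap_of_surjective _ (QuotientGroup.mk'_surjective _)]
  have := S.card_mul_index
  rw [hS, hk, pow_succ] at this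
  exact Nat.eq_of_mul_eq_mul_left (by positivity) this

theorem residual_or (ht : orderOf t = 2) (e : Ct t ≃* M) :
    Cfsg.pResidual 2 G = ⊤ ∨ ∃ O : Subgroup G, O.Normal ∧ Nat.card G = 48 * Nat.card O ∧
      Odd (Nat.card O) ∧
      (∀ p : ℕ, p.Prime → p ∣ Nat.card O → p ^ 2 ∣ Nat.card O) ∧
      (Nat.card O = 1 → t ∈ center G) := by
  classical
  by_cases hO : Cfsg.pResidual 2 G = ⊤
  · exact Or.inl hO
  right
  obtain ⟨H, hH⟩ := exists_index_two hO
  haveI : H.Normal := normal_of_index_eq_two hH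
  have h2 : Fact (Nat.Prime 2) := ⟨Nat.prime_two⟩
  obtain ⟨P, hP⟩ := exists_sylow ht e
  have hsq : ∀ x : G, x * x ∈ H := fun x => mul_self_mem_of_index_two hH x
  have hdet1 : ∀ a : M, tdet (coords a) = 1 → emb e a ∈ H := by
    intro a ha
    obtain ⟨y, hy, w, hw, he⟩ := det_one_squares _ (mem_gl a) ha
    obtain ⟨b, rfl⟩ := exists_coords (Finset.mem_filter.1 hy).2
    obtain ⟨c, rfl⟩ := exists_coords (Finset.mem_filter.1 hw).2
    rw [show a = b * b * (c * c) from coords_injective (by rw [coords_mul, coords_mul, coords_mul, he]),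
      map_mul, map_mul, map_mul]
    exact mul_mem (hsq _) (hsq _)
  have hout : ∀ a : M, emb e a ∈ H → tdet (coords a) = 1 := by
    intro a ha
    by_contra hne
    have hall : ∀ b : M, emb e b ∈ H := by
      intro b
      by_cases hb : tdet (coords b) = 1
      · exact hdet1 b hb
      · have := hdet1 (a * b) (by rw [coords_mul]; exact det_mul_two _ (mem_gl a) _ (mem_gl b) hne hb)
        rw [map_mul] at this
        simpa using mul_mem (inv_mem ha) this
    have hPH : (P : Subgroup G) ≤ H := by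
      rw [hP]
      rintro _ ⟨a, -, rfl⟩
      exact hall a
    have h16 : 16 ∣ Nat.card H := by
      have := card_dvd_of_le hPH
      rwa [hP, card_map_of_injective (emb_injective e), card_sub, card_pS] at this
    refine sixteen_dvd_exactly ht e ?_
    rw [← H.card_mul_index, hH]
    exact Nat.mul_dvd_mul_right h16 2
  have htH : t ∈ H := by
    rw [← emb_mH e ht, ← rels.2.2.2.2.2.2.2.1, map_mul]
    exact hsq _
  -- the involution is the only one of its centralizer inside `H`
  have hone : ∀ s : G, orderOf s = 2 → s ∈ H → s * t = t * s → s = t := by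
    intro s hs hsH hst
    obtain ⟨a, rfl⟩ := exists_emb e hst
    rw [orderOf_injective _ (emb_injective e)] at hs
    have ha2 : a * a = 1 := by
      have := pow_orderOf_eq_one a
      rwa [hs, pow_two] at this
    have ha1 : a ≠ 1 := by rintro rfl; rw [orderOf_one] at hs; omega
    have ha : a = mH := coords_injective <| (det_one_involution _ (mem_gl a) (hout a hsH)
      (by rw [← coords_mul, ha2, coords_one]) (fun h => ha1 (coords_injective (h.trans coords_one.symm)))).trans
      coords_consts.1.symm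
    rw [ha, emb_mH e ht]
  have ord_conj : ∀ g s : G, orderOf s = 2 → orderOf (g * s * g⁻¹) = 2 := fun g s hs =>
    ((MulAut.conj g).orderOf_eq s).trans hs
  have hconjt : ∀ s : G, orderOf s = 2 → s ∈ H → ∃ g : G, g * s * g⁻¹ = t := by
    intro s hs hsH
    obtain ⟨S, hS⟩ := (IsPGroup.of_card (p := 2) (G := zpowers s) (n := 1)
      (by rw [Nat.card_zpowers, hs, pow_one])).exists_le_sylow
    obtain ⟨g, hg⟩ := MulAction.exists_smul_eq G S P
    have hm : g * s * g⁻¹ ∈ (g • S : Sylow 2 G) := ⟨_, hS (mem_zpowers _), rfl⟩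
    rw [hg] at hm
    change g * s * g⁻¹ ∈ (P : Subgroup G) at hm
    rw [hP] at hm
    obtain ⟨a, -, ha⟩ := hm
    refine ⟨g, hone _ (ord_conj g s hs) ((inferInstance : H.Normal).conj_mem s hsH g) ?_⟩
    rw [← ha]
    exact emb_comm e a
  have huniq : ∀ s s' : ↥H, orderOf s = 2 → orderOf s' = 2 → Commute s s' → s = s' := by
    intro s s' hs hs' hc
    rw [← orderOf_coe] at hs hs'
    obtain ⟨g, hg⟩ := hconjt (s : G) hs s.2
    have hc' : g * (s' : G) * g⁻¹ * t = t * (g * (s' : G) * g⁻¹) := by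
      rw [← hg]
      exact ((show Commute (s' : G) s from (congrArg Subtype.val hc.eq).symm).map (MulAut.conj g).toMonoidHom).eq
    have h' := hone _ (ord_conj g _ hs') ((inferInstance : H.Normal).conj_mem _ s'.2 g) hc'
    exact Subtype.ext (mul_left_cancel (mul_right_cancel (hg.trans h'.symm)))
  let O : Subgroup G := (Cfsg.pPrimeCore 2 ↥H).map H.subtype
  haveI hOn : O.Normal := inferInstanceAs ((Cfsg.pPrimeCore 2 ↥H).map H.subtype).Normal
  have hodd : Odd (Nat.card O) := by
    rw [card_map_of_injective H.subtype_injective]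
    exact Nat.coprime_two_right.1 CfsgLib.PCore.pPrimeCore_coprime
  have hfree : ∀ x ∈ O, Commute x t → x = 1 := by
    intro x hx hc
    obtain ⟨a, ha⟩ := exists_emb e hc.eq
    have hA : Odd (Nat.card (O.comap (emb e))) :=
      hodd.of_dvd_nat (card_comap_dvd_of_injective O _ (emb_injective e))
    have : a ∈ O.comap (emb e) := by rw [mem_comap, ha]; exact hx
    rw [CfsgLib.GL23.PSL33.eq_one_of_odd_normal hA, mem_bot] at this
    rw [← ha, this, map_one]
  letI : Fintype G := Fintype.ofFinite G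
  have hinv : ∀ x ∈ O, t * x * t⁻¹ = x⁻¹ :=
    CfsgLib.InvChar.inverts_of_fixedPointFree ht (fun x hx => hOn.conj_mem x hx t) hfree
  have hcomm : ∀ x ∈ O, ∀ w ∈ O, x * w = w * x := by
    intro x hx w hw
    have h' := hinv _ (mul_mem hx hw)
    rw [show t * (x * w) * t⁻¹ = t * x * t⁻¹ * (t * w * t⁻¹) by group, hinv x hx, hinv w hw] at h'
    have h'' := congrArg (·⁻¹) h'
    simp only [mul_inv_rev, inv_inv] at h''
    exact h''.symm
  -- every element is a product of an element of `O` and one commuting with `t`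
  have hprod : ∀ g : G, ∃ o ∈ O, o⁻¹ * g * t = t * (o⁻¹ * g) := by
    intro g
    set s : ↥H := ⟨g * t * g⁻¹, (inferInstance : H.Normal).conj_mem t htH g⟩ with hs
    have hs2 : orderOf s = 2 := by rw [← orderOf_coe]; exact ord_conj g t ht
    have ht2 : orderOf (⟨t, htH⟩ : ↥H) = 2 := by rw [← orderOf_coe]; exact ht
    obtain ⟨S, hS⟩ := (IsPGroup.of_card (p := 2) (G := zpowers (⟨t, htH⟩ : ↥H)) (n := 1)
      (by rw [Nat.card_zpowers, ht2, pow_one])).exists_le_sylow
    obtain ⟨S', hS'⟩ := (IsPGroup.of_card (p := 2) (G := zpowers s) (n := 1)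
      (by rw [Nat.card_zpowers, hs2, pow_one])).exists_le_sylow
    obtain ⟨h, hh⟩ := MulAction.exists_smul_eq ↥H S' S
    have hm : h * s * h⁻¹ ∈ (h • S' : Sylow 2 ↥H) := ⟨_, hS' (mem_zpowers _), rfl⟩
    rw [hh] at hm
    have he : (⟨_, hm⟩ : (S : Subgroup ↥H)) = ⟨⟨t, htH⟩, hS (mem_zpowers _)⟩ :=
      CfsgLib.Involutions.unique_involution_of_rank_one huniq S.isPGroup' _ _
        (by rw [orderOf_mk]; exact ((MulAut.conj h).orderOf_eq s).trans hs2) (by rw [orderOf_mk]; exact ht2)
    have he' : (h : G) * (g * t * g⁻¹) * (h : G)⁻¹ = t := congrArg (fun u => ((u : ↥H) : G)) (congrArg Subtype.val he)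
    -- the conjugator may be taken in `O`
    have hcore : (h : G)⁻¹ * t * (h : G) * t⁻¹ ∈ O := by
      refine ⟨_, CfsgLib.Involutions.inZStar_of_rank_one huniq ht2 h⁻¹, ?_⟩
      simp
    set o := (h : G)⁻¹ * t * (h : G) * t⁻¹ with ho
    obtain ⟨k, hk⟩ := hodd
    have hok : (o ^ (k + 1)) * (o ^ (k + 1)) = o := by
      rw [← pow_add, show k + 1 + (k + 1) = (2 * k + 1) + 1 by omega, pow_succ, ← hk,
        show o ^ Nat.card O = 1 from congrArg Subtype.val (pow_card_eq_one' (x := (⟨o, hcore⟩ : ↥O))), one_mul]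
    refine ⟨o ^ (k + 1), pow_mem hcore _, ?_⟩
    have hg : g * t * g⁻¹ = o * t := by
      rw [ho, inv_mul_cancel_right]
      calc g * t * g⁻¹ = (h : G)⁻¹ * ((h : G) * (g * t * g⁻¹) * (h : G)⁻¹) * h := by group
        _ = _ := by rw [he']
    have hr := hinv _ (pow_mem hcore (k + 1))
    have hrt : t * o ^ (k + 1) = (o ^ (k + 1))⁻¹ * t := mul_inv_eq_iff_eq_mul.1 hr
    calc (o ^ (k + 1))⁻¹ * g * t = (o ^ (k + 1))⁻¹ * (g * t * g⁻¹) * g := by group
      _ = (o ^ (k + 1))⁻¹ * (o ^ (k + 1) * o ^ (k + 1) * t) * g := by rw [hg, hok]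
      _ = o ^ (k + 1) * t * g := by group
      _ = t * ((o ^ (k + 1))⁻¹ * g) := by
          rw [show t * ((o ^ (k + 1))⁻¹ * g) = t * (o ^ (k + 1))⁻¹ * g by group]
          congr 1
          rw [← mul_inv_eq_iff_eq_mul.1 (show t * (o ^ (k + 1))⁻¹ * t⁻¹ = o ^ (k + 1) by
            rw [show t * (o ^ (k + 1))⁻¹ * t⁻¹ = (t * o ^ (k + 1) * t⁻¹)⁻¹ by group, hr, inv_inv])]
  have hbij : Function.Bijective (fun p : ↥O × M => (p.1 : G) * emb e p.2) := by
    refine ⟨fun ⟨o, a⟩ ⟨o', a'⟩ h => ?_, fun g => ?_⟩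
    · have h' : (o' : G)⁻¹ * o = emb e (a' * a⁻¹) := by
        rw [map_mul, map_inv, eq_mul_inv_iff_mul_eq, mul_assoc, show (o : G) * emb e a = o' * emb e a' from h,
          inv_mul_cancel_left]
      have h1 : (o' : G)⁻¹ * o = 1 := hfree _ (mul_mem (inv_mem o'.2) o.2) (by rw [h']; exact emb_comm e _)
      have ho : o' = o := Subtype.ext (inv_mul_eq_one.1 h1)
      rw [h1] at h'
      have ha : a' = a := mul_inv_eq_one.1 ((map_eq_one_iff _ (emb_injective e)).1 h'.symm)
      rw [ho, ha]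
    · obtain ⟨o, ho, hc⟩ := hprod g
      obtain ⟨a, ha⟩ := exists_emb e hc
      exact ⟨(⟨o, ho⟩, a), by show o * emb e a = g; rw [ha, mul_inv_cancel_left]⟩
  refine ⟨O, hOn, ?_, hodd, fun p hp hdvd => ?_, fun h1 => ?_⟩
  · rw [← Nat.card_eq_of_bijective _ hbij, Nat.card_prod, card_M, mul_comm]
  · by_contra hsq'
    have hpf : Fact p.Prime := ⟨hp⟩
    obtain ⟨o, ho⟩ := exists_prime_orderOf_dvd_card' p hdvd
    have hop : (o : G) ^ p = 1 := by rw [← ho, ← orderOf_coe, pow_orderOf_eq_one]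
    have hgen : ∀ w ∈ O, w ^ p = 1 → w ∈ zpowers (o : G) := by
      intro w hw hwp
      by_contra hwz
      letI : CommGroup ↥O := { (inferInstance : Group ↥O) with mul_comm := fun a b => Subtype.ext (hcomm a a.2 b b.2) }
      have hle : Nat.card ↥(zpowers o) = p := by rw [Nat.card_zpowers, ho]
      let S := zpowers o ⊔ zpowers (⟨w, hw⟩ : ↥O)
      have hS : ∀ u ∈ S, u ^ p = 1 := by
        intro u hu
        obtain ⟨u1, hu1, u2, hu2, rfl⟩ := mem_sup.1 hu
        obtain ⟨n1, rfl⟩ := mem_zpowers_iff.1 hu1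
        obtain ⟨n2, rfl⟩ := mem_zpowers_iff.1 hu2
        rw [mul_pow, ← zpow_natCast, ← zpow_natCast (_ ^ n2), ← zpow_mul, ← zpow_mul, mul_comm n1, mul_comm n2,
          zpow_mul, zpow_mul, zpow_natCast, zpow_natCast, ← ho, pow_orderOf_eq_one, ho,
          show (⟨w, hw⟩ : ↥O) ^ p = 1 from Subtype.ext hwp, one_zpow, one_zpow, one_mul]
      have hpg : IsPGroup p ↥S := fun u => ⟨1, by rw [pow_one]; exact Subtype.ext (hS u u.2)⟩
      obtain ⟨n, hn⟩ := IsPGroup.iff_card.1 hpg
      have hlt : p < p ^ n := by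
        rw [← hn, ← hle]
        refine lt_of_le_of_ne (Nat.le_of_dvd Nat.card_pos (card_dvd_of_le le_sup_left)) fun hc => hwz ?_
        have hmem : (⟨w, hw⟩ : ↥O) ∈ zpowers o := by
          rw [eq_of_le_of_card_ge (le_sup_left : zpowers o ≤ S) hc.symm.le]
          exact mem_sup_right (mem_zpowers _)
        obtain ⟨n, hn⟩ := mem_zpowers_iff.1 hmem
        exact ⟨n, congrArg Subtype.val hn⟩
      have h2n : 2 ≤ n := by
        by_contra hn2
        have := Nat.pow_le_pow_right hp.pos (show n ≤ 1 by omega)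
        rw [pow_one] at this
        omega
      exact hsq' ((pow_dvd_pow p h2n).trans (hn ▸ S.card_subgroup_dvd_card))
    have hact : ∀ a : G, ∃ i : ℤ, a * o * a⁻¹ = (o : G) ^ i := fun a => by
      obtain ⟨i, hi⟩ := mem_zpowers_iff.1 (hgen _ (hOn.conj_mem o o.2 a) (by rw [conj_pow, hop, mul_one, mul_inv_cancel]))
      exact ⟨i, hi.symm⟩
    obtain ⟨i, hi⟩ := hact (emb e mW)
    obtain ⟨j, hj⟩ := hact (emb e mR)
    have key : ∀ (a : G) (i k : ℤ), a * o * a⁻¹ = (o : G) ^ i → a * (o : G) ^ k * a⁻¹ = (o : G) ^ (i * k) := by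
      intro a i k h
      rw [show a * (o : G) ^ k * a⁻¹ = (MulAut.conj a) ((o : G) ^ k) from rfl, map_zpow,
        show (MulAut.conj a) (o : G) = a * o * a⁻¹ from rfl, h, ← zpow_mul]
    have hab : emb e (mW * mR) * o * (emb e (mW * mR))⁻¹ = emb e (mR * mW) * o * (emb e (mR * mW))⁻¹ := by
      rw [map_mul, map_mul]
      rw [show ∀ a b : G, a * b * (o : G) * (a * b)⁻¹ = a * (b * o * b⁻¹) * a⁻¹ from fun a b => by group, hj,
        key _ _ _ hi, show ∀ a b : G, a * b * (o : G) * (a * b)⁻¹ = a * (b * o * b⁻¹) * a⁻¹ from fun a b => by group,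
        hi, key _ _ _ hj, mul_comm i j]
    have hrel : emb e (mW * mR) = t * emb e (mR * mW) := by
      have h' : emb e (mW * mR) = emb e mH * emb e (mR * mW) := by
        rw [← map_mul, ← quat_rel]
        congr 1
        group
      rwa [emb_mH e ht] at h'
    have hfix : t * o * t⁻¹ = (o : G) := by
      have h' := congrArg (fun u => t⁻¹ * u * t) hab
      rw [hrel] at h'
      simp only [mul_inv_rev] at h'
      set b := emb e (mR * mW) with hb
      have hbt : b * t = t * b := emb_comm e _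
      have hy : t⁻¹ * (t * b * o * (b⁻¹ * t⁻¹)) * t = b * o * b⁻¹ := by group
      rw [hy] at h'
      have : b * o * b⁻¹ = b * (t⁻¹ * o * t) * b⁻¹ := by
        rw [h']
        have hbi : t⁻¹ * b = b * t⁻¹ := (Commute.inv_left (show Commute t b from hbt.symm)).eq
        calc t⁻¹ * (b * o * b⁻¹) * t = (t⁻¹ * b) * o * (b⁻¹ * t) := by group
          _ = (b * t⁻¹) * o * (t * b⁻¹) := by rw [hbi, (Commute.inv_left (show Commute b t from hbt)).eq]
          _ = _ := by group
      have := mul_left_cancel (mul_right_cancel this)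
      calc t * o * t⁻¹ = t * (t⁻¹ * o * t) * t⁻¹ := by rw [← this]
        _ = o := by group
    have : (o : G) = 1 := hfree _ o.2 (mul_inv_eq_iff_eq_mul.1 hfix).symm
    rw [show o = 1 from Subtype.ext this, orderOf_one] at ho
    exact hp.one_lt.ne ho
  · refine mem_center_iff.2 fun g => ?_
    obtain ⟨o, ho, hc⟩ := hprod g
    have : o = 1 := by
      rw [Subgroup.card_eq_one] at h1
      rwa [h1, mem_bot] at ho
    rw [this, inv_one, one_mul] at hc
    exact hc

end CfsgLib.SuzElem
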