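import Mathlib
import Cfsg.Agent.Lib.SuzElem.Cent

/-!
The elements of the centralizer of `z` normalizing the group of the rotations, and their action on the
plane inverted by `z`.
-/

set_option autoImplicit false
set_option linter.style.longLine false
set_option linter.style.haveILetI false
set_option linter.unusedSectionVars false
set_option maxHeartbeats 1000000
set_option synthInstance.maxSize 8000
set_option synthInstance.maxHeartbeats 1000000

namespace CfsgLib.SuzElem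

open Subgroup
open CfsgLib.SuzType
open Fin.NatCast

namespace Elem

variable {P : Type} [Group P] [Finite P] (E : Elem P)

theorem fin_cases_ne : ∀ u : Fin 3, u ≠ 0 → u = 1 ∨ u = 2 := by decide

/-- The representatives of the symmetries of `a, b`, also times `s`, do not centralize the plane `w₁, w₂`. -/
theorem moves {p : P} (hp : p = 1 ∨ p = E.d ∨ p = E.sw ∨ p = E.sw * E.d) :
    ¬ (Commute (p * E.s) E.w1 ∧ Commute (p * E.s) E.w2) ∧ (p ≠ 1 → ¬ (Commute p E.w1 ∧ Commute p E.w2)) := by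
  have no : ∀ i j k l i' j' : Fin 3, (k ≠ i' ∨ l ≠ j') →
      E.w1 ^ (i : ℕ) * E.w2 ^ (j : ℕ) * (E.w1 ^ (k : ℕ) * E.w2 ^ (l : ℕ)) ≠
        E.w1 ^ (i : ℕ) * E.w2 ^ (j : ℕ) * (E.w1 ^ (i' : ℕ) * E.w2 ^ (j' : ℕ)) := by
    intro i j k l i' j' h e
    have e' := mul_left_cancel e
    have hm : E.w1 ^ ((k : ℕ) + 2 * i') * E.w2 ^ ((l : ℕ) + 2 * j') = 1 := by
      rw [pow_add, pow_add, mul_assoc (E.w1 ^ (k : ℕ)), ← mul_assoc (E.w1 ^ (2 * (i' : ℕ))),
        (E.w12.pow_pow _ _).eq, mul_assoc (E.w2 ^ (l : ℕ)), ← mul_assoc, e', mul_assoc (E.w1 ^ (i' : ℕ)),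
        ← mul_assoc (E.w2 ^ (j' : ℕ)), (E.w12.symm.pow_pow _ _).eq, mul_assoc (E.w1 ^ (2 * (i' : ℕ))),
        ← pow_add E.w2, ← mul_assoc, ← pow_add, show (i' : ℕ) + 2 * i' = 3 * i' by ring,
        show (j' : ℕ) + 2 * j' = 3 * j' by ring, pow_mul, pow_mul, E.w1_pow_three, E.w2_pow_three, one_pow, one_pow,
        one_mul]
    rw [← pow_mod_three E.w1_pow_three, ← pow_mod_three E.w2_pow_three] at hm
    obtain ⟨-, -, h1, h2⟩ := E.inj 0 0 _ _ (by rw [hm]; simp)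
    have h1' := congrArg Fin.val h1
    have h2' := congrArg Fin.val h2
    simp only [Fin.val_natCast, Fin.val_zero] at h1' h2'
    have := k.isLt; have := l.isLt; have := i'.isLt; have := j'.isLt
    rcases h with h | h <;> exact h (Fin.ext (by omega))
  have n12 : E.w1 ≠ E.w2 * E.w2 := fun e => no 0 0 1 0 0 2 (Or.inl (by decide)) (by simp [e, pow_two])
  have n11 : E.w1 ≠ E.w1 * E.w1 := fun e => no 0 0 1 0 2 0 (Or.inl (by decide)) (by simp [pow_two, ← e])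
  have n12' : E.w1 ≠ E.w2 := fun e => no 0 0 1 0 0 1 (Or.inl (by decide)) (by simp [e])
  have m1 : E.w1 * E.w2 ≠ E.w1 * E.w1 * E.w2 := fun e => n11 (mul_right_cancel e)
  have m2 : E.w1 * E.w2 ≠ E.w1 * (E.w2 * E.w2) := fun e => no 0 0 0 1 0 2 (Or.inr (by decide))
    (by simp [pow_two, ← mul_left_cancel e])
  have hsw : E.sw * (E.w1 * E.w2) = E.w1 * E.w1 * E.w2 * E.sw := E.sww
  have hds : ∀ p : P, p * E.w1 = E.w2 * E.w2 * p → ¬ Commute p E.w1 ∧ ¬ Commute (p * E.s) E.w1 := by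
    intro p hp
    refine ⟨fun h => n12 (mul_right_cancel (h.eq.symm.trans hp)), fun h => n12' ?_⟩
    have h' : E.w1 * (p * E.s) = E.w2 * (p * E.s) := by
      rw [← h.eq, mul_assoc, E.sw1, ← mul_assoc, ← mul_assoc, hp, mul_assoc (E.w2 * E.w2), hp, ← mul_assoc,
        show E.w2 * E.w2 * (E.w2 * E.w2) = E.w2 by rw [← mul_assoc, E.w23, one_mul]]
      simp only [mul_assoc]
    exact mul_right_cancel h'
  rcases hp with rfl | rfl | rfl | rfl
  · refine ⟨fun h => n11 ?_, fun h => absurd rfl h⟩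
    have := h.1
    rw [one_mul] at this
    exact mul_right_cancel (this.eq.symm.trans E.sw1)
  · exact ⟨fun h => (hds _ E.dw).2 h.1, fun _ h => (hds _ E.dw).1 h.1⟩
  · refine ⟨fun h => ?_, fun _ h => m1 (mul_right_cancel ((h.1.mul_right h.2).eq.symm.trans hsw))⟩
    have hw12 : E.s * (E.w1 * E.w2) = (E.w1 * E.w2) * (E.w1 * E.w2) * E.s := by
      rw [← mul_assoc, E.sw1, mul_assoc (E.w1 * E.w1), E.sw2, ← mul_assoc,
        show E.w1 * E.w2 * (E.w1 * E.w2) = E.w1 * (E.w2 * E.w1) * E.w2 by group, E.w12.symm.eq]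
      group
    have h' : E.w1 * E.w2 * (E.sw * E.s) = E.w1 * (E.w2 * E.w2) * (E.sw * E.s) := by
      rw [← (h.1.mul_right h.2).eq, mul_assoc, hw12, ← mul_assoc, ← mul_assoc, hsw,
        mul_assoc (E.w1 * E.w1 * E.w2), hsw]
      have e : E.w1 * E.w1 * E.w2 * (E.w1 * E.w1 * E.w2) = E.w1 * (E.w2 * E.w2) := by
        calc E.w1 * E.w1 * E.w2 * (E.w1 * E.w1 * E.w2) = E.w1 * E.w1 * (E.w2 * (E.w1 * E.w1)) * E.w2 := by group
          _ = E.w1 * E.w1 * ((E.w1 * E.w1) * E.w2) * E.w2 := by rw [(E.w12.symm.mul_right E.w12.symm).eq]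
          _ = E.w1 * E.w1 * E.w1 * (E.w1 * (E.w2 * E.w2)) := by group
          _ = _ := by rw [E.w13, one_mul]
      rw [← mul_assoc (E.w1 * E.w1 * E.w2) (E.w1 * E.w1 * E.w2), e]
      simp only [mul_assoc]
    exact m2 (mul_right_cancel h')
  · exact ⟨fun h => (hds _ E.sdw).2 h.1, fun _ h => (hds _ E.sdw).1 h.1⟩

end Elem

variable {G : Type*} [Group G] [Finite G] {z : G} {Q : Subgroup G}
variable {P : Type} [Group P] [Finite P]

namespace Setup

variable {K : Coord z Q 1} {y : G} {T : Three K y} {E : Elem P} (S : Setup T E)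

/-- The rotation of given exponents. -/
def tri (i j k : Fin 3) : G := S.ra ^ (i : ℕ) * S.rb ^ (j : ℕ) * y ^ (k : ℕ)

theorem tri_mem (i j k : Fin 3) : S.tri i j k ∈ S.Rot := ⟨_, _, _, rfl⟩

theorem tri_act (i j k : Fin 3) : K.act (S.tri i j k) = pmap ((i, j, k, 0) : Par) :=
  T.act_tri S.haS S.haa S.hbS S.hba i j k

theorem tri_inj {i j k i' j' k' : Fin 3} (h : S.tri i j k = S.tri i' j' k') : i = i' ∧ j = j' ∧ k = k' := by
  have := congrArg K.act h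
  rw [S.tri_act, S.tri_act] at this
  simpa using pmap_inj this

theorem exists_tri {r : G} (hr : r ∈ S.Rot) : ∃ i j k : Fin 3, r = S.tri i j k := by
  obtain ⟨i, j, k, rfl⟩ := hr
  exact ⟨(i : Fin 3), (j : Fin 3), (k : Fin 3), by
    rw [tri, pow_mod_three S.ra3, pow_mod_three S.rb3, pow_mod_three T.y_three]⟩

theorem rot_eq_of_act {r r' : G} (hr : r ∈ S.Rot) (hr' : r' ∈ S.Rot) (h : K.act r = K.act r') : r = r' := by
  obtain ⟨i, j, k, rfl⟩ := S.exists_tri hr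
  obtain ⟨i', j', k', rfl⟩ := S.exists_tri hr'
  rw [S.tri_act, S.tri_act] at h
  have := pmap_inj h
  simp only [Prod.mk.injEq, and_true] at this
  obtain ⟨rfl, rfl, rfl⟩ := this
  rfl

theorem ra_tri (u : Fin 3) : S.ra ^ (u : ℕ) = S.tri u 0 0 := by simp [tri]
theorem rb_tri (u : Fin 3) : S.rb ^ (u : ℕ) = S.tri 0 u 0 := by simp [tri]
theorem y_tri (u : Fin 3) : y ^ (u : ℕ) = S.tri 0 0 u := by simp [tri]

/-- The elements of `C(z)` normalizing the rotations. -/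
def Nz : Subgroup G := centralizer ({z} : Set G) ⊓ normalizer (S.Rot : Set G)

theorem mem_Nz {n : G} : n ∈ S.Nz ↔ n * z = z * n ∧ n ∈ normalizer (S.Rot : Set G) :=
  and_congr mem_centralizer_singleton_iff Iff.rfl

theorem conj_rot {n r : G} (hn : n ∈ S.Nz) (hr : r ∈ S.Rot) : n * r * n⁻¹ ∈ S.Rot :=
  (mem_normalizer_iff.1 (S.mem_Nz.1 hn).2 r).1 hr

theorem rot_le_Nz : S.Rot ≤ S.Nz := fun r hr => S.mem_Nz.2 ⟨(mem_Dg.1 (S.rot_le hr)).1, mem_normalizer_fintype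
  fun r' hr' => by rw [(S.rot_comm hr hr').eq, mul_inv_cancel_right]; exact hr'⟩

theorem z_Nz : z ∈ S.Nz := S.mem_Nz.2 ⟨rfl, mem_normalizer_fintype fun r hr => by
  rw [S.rot_fix hr, mul_inv_cancel_right]; exact hr⟩

/-- The action on the pair of rotations. -/
def Act (n : G) (s : Bool) (u : Fin 3) : Prop :=
  n * S.ra * n⁻¹ = (if s then S.ra else S.rb) ^ (u : ℕ) ∧ n * S.rb * n⁻¹ = (if s then S.rb else S.ra) ^ (u : ℕ)

theorem act_unique {n : G} {s s' : Bool} {u u' : Fin 3} (hu : u ≠ 0) (h : S.Act n s u) (h' : S.Act n s' u') :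
    s = s' ∧ u = u' := by
  have e := h.1.symm.trans h'.1
  cases s <;> cases s' <;> simp only [Bool.false_eq_true, if_false, if_true, S.ra_tri, S.rb_tri] at e <;>
    obtain ⟨e1, e2, -⟩ := S.tri_inj e
  · exact ⟨rfl, e2⟩
  · exact absurd e2 hu
  · exact absurd e1 hu
  · exact ⟨rfl, e1⟩

theorem act_rot {n r : G} (hr : r ∈ S.Rot) {s : Bool} {u : Fin 3} (h : S.Act n s u) : S.Act (n * r) s u := by
  constructor
  · rw [show n * r * S.ra * (n * r)⁻¹ = n * (r * S.ra * r⁻¹) * n⁻¹ by group, (S.rot_comm hr S.ra_mem).eq,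
      mul_inv_cancel_right, h.1]
  · rw [show n * r * S.rb * (n * r)⁻¹ = n * (r * S.rb * r⁻¹) * n⁻¹ by group, (S.rot_comm hr S.rb_mem).eq,
      mul_inv_cancel_right, h.2]

theorem act_z {n : G} {s : Bool} {u : Fin 3} (h : S.Act n s u) : S.Act (n * z) s u := by
  constructor
  · rw [show n * z * S.ra * (n * z)⁻¹ = n * (z * S.ra * z⁻¹) * n⁻¹ by group, S.rot_fix S.ra_mem,
      mul_inv_cancel_right, h.1]
  · rw [show n * z * S.rb * (n * z)⁻¹ = n * (z * S.rb * z⁻¹) * n⁻¹ by group, S.rot_fix S.rb_mem,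
      mul_inv_cancel_right, h.2]

/-- Inside `C(y)` the action is by one of the four symmetries. -/
theorem act_form {n : G} (hn : n ∈ S.Nz) (hy : n * y = y * n) : ∃ (s : Bool) (u : Fin 3), u ≠ 0 ∧ S.Act n s u := by
  have H := T.hyp
  have hnD : n ∈ Dg z y := mem_Dg.2 ⟨(S.mem_Nz.1 hn).1, hy⟩
  obtain ⟨p, hp⟩ := T.exists_par hnD
  set t := S.tri p.1 p.2.1 p.2.2.1 with ht
  set c := n * t⁻¹ with hc
  have htR : t ∈ S.Rot := S.tri_mem _ _ _
  have hcD : c ∈ Dg z y := mul_mem hnD (inv_mem (S.rot_le htR))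
  have hcN : c ∈ S.Nz := mul_mem hn (inv_mem (S.rot_le_Nz htR))
  have hcz := (mem_Dg.1 hcD).1
  have hcact : K.act c = pmap ((0, 0, 0, p.2.2.2) : Par) := by
    refine funext fun v => ?_
    obtain ⟨w, hw⟩ := (Finite.injective_iff_surjective.1 (K.act_injective H (mem_Dg.1 (S.rot_le htR)).1)) v
    rw [← hw, ← K.act_mul H hcz (mem_Dg.1 (S.rot_le htR)).1, hc, inv_mul_cancel_right, hp, S.tri_act]
    exact (congrFun (eq_six (f := fun v => pmap ((0, 0, 0, p.2.2.2) : Par) (pmap ((p.1, p.2.1, p.2.2.1, 0) : Par) v))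
      (fun a b => by simp only [pmap_add]) (pmap_add p) (par_split p)) w).symm
  have img : ∀ {w r : G} {q q' : Par}, w ∈ S.Rot → r ∈ S.Rot → K.act w = pmap q → K.act r = pmap q' →
      (∀ t, pmap ((0, 0, 0, p.2.2.2) : Par) (pmap q (six t)) = pmap q' (pmap ((0, 0, 0, p.2.2.2) : Par) (six t))) →
      n * w * n⁻¹ = r := by
    intro w r q q' hw hr hwa hra htab
    have hnw : n * w * n⁻¹ = c * w * c⁻¹ := by
      rw [show n = c * t by rw [hc, inv_mul_cancel_right], show c * t * w * (c * t)⁻¹ = c * (t * w * t⁻¹) * c⁻¹ by group,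
        (S.rot_comm htR hw).eq, mul_inv_cancel_right]
    rw [hnw]
    have hm := S.conj_rot hcN hw
    refine S.rot_eq_of_act hm hr (funext fun v => ?_)
    obtain ⟨v', hv'⟩ := (Finite.injective_iff_surjective.1 (K.act_injective H hcz)) v
    rw [← hv', ← K.act_mul H (mem_Dg.1 (S.rot_le hm)).1 hcz, inv_mul_cancel_right,
      K.act_mul H hcz (mem_Dg.1 (S.rot_le hw)).1, hwa, hra, hcact]
    exact congrFun (eq_six (f := fun v => pmap ((0, 0, 0, p.2.2.2) : Par) (pmap q v))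
      (g := fun v => pmap q' (pmap ((0, 0, 0, p.2.2.2) : Par) v))
      (fun a b => by simp only [pmap_add]) (fun a b => by simp only [pmap_add]) htab) v'
  obtain ⟨s, u, hu, hA, hB⟩ := rep_conj p.2.2.2
  refine ⟨s, u, hu, img S.ra_mem ?_ S.haa ?_ hA, img S.rb_mem ?_ S.hba ?_ hB⟩
  · cases s <;> [exact pow_mem S.rb_mem _; exact pow_mem S.ra_mem _]
  · cases s
    · rw [if_neg Bool.false_ne_true, S.rb_tri, S.tri_act]; rfl
    · rw [if_pos rfl, S.ra_tri, S.tri_act]; rfl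
  · cases s <;> [exact pow_mem S.ra_mem _; exact pow_mem S.rb_mem _]
  · cases s
    · rw [if_neg Bool.false_ne_true, S.ra_tri, S.tri_act]; rfl
    · rw [if_pos rfl, S.rb_tri, S.tri_act]; rfl

theorem exists_Dg_lift {p : P} (hp : Commute p E.s) : ∃ (c : G) (h : c ∈ Cy y), c ∈ Dg z y ∧ S.psi ⟨c, h⟩ = p := by
  obtain ⟨c, rfl⟩ := S.surj p
  have hm : (c * ⟨z, T.zY⟩ * c⁻¹ : ↥(Cy y))⁻¹ * ⟨z, T.zY⟩ ∈ S.psi.ker := by
    rw [MonoidHom.mem_ker, map_mul, map_inv, map_mul, map_mul, map_inv, S.psi_z, hp.eq, mul_inv_cancel_right,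
      inv_mul_cancel]
  have hY := (S.ker _).1 hm
  have hcy : (c : G) * y = y * c := mem_Cy.1 c.2
  have e : (c : G) * z * (c : G)⁻¹ = z := by
    refine T.eq_of_pow_four ?_ (T.Q_pow (Coord.zQ T.hyp)) ?_ hY
    · rw [conj_pow, T.Q_pow (Coord.zQ T.hyp), mul_one, mul_inv_cancel]
    · exact (((show Commute (c : G) y from hcy).mul_left (show Commute z y from T.yz.symm)).mul_left
        (show Commute (c : G) y from hcy).inv_left).eq
  exact ⟨c, c.2, mem_Dg.2 ⟨mul_inv_eq_iff_eq_mul.1 e, hcy⟩, rfl⟩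

theorem AB_conj {p : P} {a' b' : P} (ha : p * E.a = a' * p) (hb : p * E.b = b' * p) (ha' : a' ∈ E.AB) (hb' : b' ∈ E.AB)
    {u : P} (hu : u ∈ E.AB) : p * u * p⁻¹ ∈ E.AB := by
  obtain ⟨i, j, rfl⟩ := hu
  rw [show p * (E.a ^ i * E.b ^ j) * p⁻¹ = (p * E.a * p⁻¹) ^ i * (p * E.b * p⁻¹) ^ j by rw [conj_pow, conj_pow]; group,
    ha, hb, mul_inv_cancel_right, mul_inv_cancel_right]
  exact mul_mem (pow_mem ha' _) (pow_mem hb' _)

theorem exists_Nz_lift {p a' b' : P} (hs : Commute p E.s) (ha : p * E.a = a' * p) (hb : p * E.b = b' * p)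
    (ha' : a' ∈ E.AB) (hb' : b' ∈ E.AB) :
    ∃ (c : G) (h : c ∈ Cy y), c ∈ S.Nz ∧ c * y = y * c ∧ S.psi ⟨c, h⟩ = p := by
  obtain ⟨c, hc, hcD, hpc⟩ := S.exists_Dg_lift hs
  refine ⟨c, hc, S.mem_Nz.2 ⟨(mem_Dg.1 hcD).1, mem_normalizer_fintype fun r hr => ?_⟩, (mem_Dg.1 hcD).2, hpc⟩
  have hrC : r ∈ Cy y := T.DY (S.rot_le hr)
  refine (S.mem_rot_iff (c := c * r * c⁻¹) (mul_mem (mul_mem hc hrC) (inv_mem hc))).2 ?_
  show S.psi (⟨c, hc⟩ * ⟨r, hrC⟩ * ⟨c, hc⟩⁻¹) ∈ E.AB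
  rw [map_mul, map_mul, map_inv, hpc]
  exact AB_conj ha hb ha' hb' ((S.mem_rot_iff hrC).1 hr)

/-- The image of an element inside `C(y)` acting with given symmetry. -/
theorem psi_scalar {m : G} (hm : m ∈ Cy y) {u : Fin 3} (h : S.Act m true u) {v : P} (hv : v ∈ E.AB) :
    S.psi ⟨m, hm⟩ * v * (S.psi ⟨m, hm⟩)⁻¹ = v ^ (u : ℕ) := by
  obtain ⟨r, rfl⟩ := S.surj v
  have hr : (r : G) ∈ S.Rot := (S.mem_rot_iff r.2).2 hv
  have e : m * (r : G) * m⁻¹ * ((r : G) ^ (u : ℕ))⁻¹ ∈ zpowers y := by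
    obtain ⟨i, j, k, hk⟩ := hr
    obtain ⟨hab, hay, hby⟩ := rot_commute T S.haS S.hbS
    have h1 : m * (r : G) * m⁻¹ = (S.ra ^ i) ^ (u : ℕ) * (S.rb ^ j) ^ (u : ℕ) * y ^ k := by
      rw [hk, show m * (S.ra ^ i * S.rb ^ j * y ^ k) * m⁻¹ = (m * S.ra * m⁻¹) ^ i * (m * S.rb * m⁻¹) ^ j * (m * y * m⁻¹) ^ k by
        rw [conj_pow, conj_pow, conj_pow]; group, h.1, h.2, mem_Cy.1 hm, mul_inv_cancel_right, if_pos rfl, if_pos rfl,
        ← pow_mul, ← pow_mul, ← pow_mul, ← pow_mul, mul_comm i, mul_comm j]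
    have h2 : (r : G) ^ (u : ℕ) = (S.ra ^ i) ^ (u : ℕ) * (S.rb ^ j) ^ (u : ℕ) * (y ^ k) ^ (u : ℕ) := by
      rw [hk, ((hay.pow_pow i k).mul_left (hby.pow_pow j k)).mul_pow, (hab.pow_pow i j).mul_pow]
    rw [h1, h2, mul_inv_rev]
    set X := (S.ra ^ i) ^ (u : ℕ) * (S.rb ^ j) ^ (u : ℕ) with hX
    have hXy : Commute X (y ^ k * ((y ^ k) ^ (u : ℕ))⁻¹) := by
      have h0 : Commute X y := (((hay.pow_left i).pow_left _).mul_left ((hby.pow_left j).pow_left _))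
      exact (h0.pow_right k).mul_right ((h0.pow_right k).pow_right _).inv_right
    rw [show X * y ^ k * (((y ^ k) ^ (u : ℕ))⁻¹ * X⁻¹) = X * (y ^ k * ((y ^ k) ^ (u : ℕ))⁻¹) * X⁻¹ by group,
      hXy.eq, mul_inv_cancel_right]
    exact mul_mem (pow_mem (mem_zpowers y) k) (inv_mem (pow_mem (pow_mem (mem_zpowers y) k) _))
  have he := (S.ker (⟨m, hm⟩ * r * ⟨m, hm⟩⁻¹ * (r ^ (u : ℕ))⁻¹)).2 e
  rw [map_mul, map_mul, map_mul, map_inv, map_inv, map_pow, mul_inv_eq_one] at he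
  exact he

/-- Every symmetry is induced, by a known element. -/
theorem act_exists (s : Bool) (u : Fin 3) (hu : u ≠ 0) :
    ∃ (m : G) (h : m ∈ Cy y), m ∈ S.Nz ∧ m * y = y * m ∧ S.Act m s u ∧
      (S.psi ⟨m, h⟩ = 1 ∨ S.psi ⟨m, h⟩ = E.d ∨ S.psi ⟨m, h⟩ = E.sw ∨ S.psi ⟨m, h⟩ = E.sw * E.d) ∧
      (S.psi ⟨m, h⟩ = 1 → m = 1) := by
  have ab : E.a ≠ E.b := fun e => by
    obtain ⟨h, -, -, -⟩ := E.inj 1 2 0 0 (by simp [pow_two, e, ← mul_assoc, E.b3])
    exact absurd h (by decide)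
  have ab2 : E.a * E.a ≠ E.b := fun e => by
    obtain ⟨-, h, -, -⟩ := E.inj 2 2 0 0 (by simp [pow_two, e, ← mul_assoc, E.b3])
    exact absurd h (by decide)
  have d1 : E.d ≠ 1 := fun e => by
    have := E.da
    rw [e, one_mul, mul_one] at this
    obtain ⟨h, -, -, -⟩ := E.inj 1 0 0 0 (by simp [mul_eq_left.1 this.symm])
    exact absurd h (by decide)
  have s1 : E.sw ≠ 1 := fun e => ab (by have := E.swa; rwa [e, one_mul, mul_one] at this)
  have sd1 : E.sw * E.d ≠ 1 := fun e => ab2 (by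
    have h : E.sw * E.d * E.a = E.b * E.b * (E.sw * E.d) := by
      rw [mul_assoc, E.da, ← mul_assoc, ← mul_assoc, E.swa, mul_assoc E.b, E.swa]
      simp only [mul_assoc]
    rw [e, one_mul, mul_one] at h
    rw [h, ← mul_assoc, E.b3, one_mul])
  obtain ⟨δ, hδ, hδN, hδy, hδp⟩ := S.exists_Nz_lift E.ds E.da E.db (mul_mem E.a_mem E.a_mem) (mul_mem E.b_mem E.b_mem)
  obtain ⟨σ, hσ, hσN, hσy, hσp⟩ := S.exists_Nz_lift E.ss E.swa E.swb E.b_mem E.a_mem
  have hδa : S.Act δ true 2 := by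
    obtain ⟨s', u', hu', h⟩ := S.act_form hδN hδy
    cases s'
    · exfalso
      have hre : S.ra⁻¹ = S.ra ^ 2 := inv_eq_of_mul_eq_one_right (by rw [← pow_succ', S.ra3])
      have hmem : (⟨δ, hδ⟩ : ↥(Cy y)) * ⟨S.ra, T.DY (S.rot_le S.ra_mem)⟩ * ⟨δ, hδ⟩⁻¹ * ⟨S.ra, T.DY (S.rot_le S.ra_mem)⟩ ∈ S.psi.ker := by
        set v := S.psi ⟨S.ra, T.DY (S.rot_le S.ra_mem)⟩ with hv
        have hvm : v ∈ E.AB := (S.mem_rot_iff _).1 S.ra_mem
        rw [MonoidHom.mem_ker, map_mul, map_mul, map_mul, map_inv, hδp, ← hv]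
        obtain ⟨i, j, hij⟩ := hvm
        have hda : E.d * E.a * E.d⁻¹ = E.a⁻¹ := by
          rw [E.da, mul_inv_cancel_right]; exact eq_inv_of_mul_eq_one_left E.a3
        have hdb : E.d * E.b * E.d⁻¹ = E.b⁻¹ := by
          rw [E.db, mul_inv_cancel_right]; exact eq_inv_of_mul_eq_one_left E.b3
        have hdv : E.d * v * E.d⁻¹ = (E.a ^ i * E.b ^ j)⁻¹ := by
          rw [hij, show E.d * (E.a ^ i * E.b ^ j) * E.d⁻¹ = (E.d * E.a * E.d⁻¹) ^ i * (E.d * E.b * E.d⁻¹) ^ j by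
            rw [conj_pow, conj_pow]; group, hda, hdb, inv_pow, inv_pow, ← mul_inv_rev, (E.ab.pow_pow i j).eq]
        rw [hdv, hij, inv_mul_cancel]
      have hY := (S.ker _).1 hmem
      change δ * S.ra * δ⁻¹ * S.ra ∈ zpowers y at hY
      rw [h.1, if_neg Bool.false_ne_true] at hY
      obtain ⟨k, hk⟩ := T.zpow_cases hY
      have e : S.tri 1 u' 0 = S.tri 0 0 k := by
        rw [← S.y_tri, ← hk, tri]
        simp [((rot_commute T S.haS S.hbS).1.pow_right (u' : ℕ)).eq]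
      exact absurd (S.tri_inj e).1 (by decide)
    · rcases Elem.fin_cases_ne u' hu' with rfl | rfl
      · exfalso
        have := S.psi_scalar hδ h E.a_mem
        rw [hδp, E.da, mul_inv_cancel_right] at this
        simp only [Fin.val_one, pow_one, mul_eq_left] at this
        obtain ⟨hh, -, -, -⟩ := E.inj 1 0 0 0 (by simp [this])
        exact absurd hh (by decide)
      · exact h
  obtain ⟨s', v, hv, hσa⟩ := S.act_form hσN hσy
  have hsf : s' = false := by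
    cases s'
    · rfl
    exfalso
    have := S.psi_scalar hσ hσa E.a_mem
    rw [hσp, E.swa, mul_inv_cancel_right] at this
    rcases Elem.fin_cases_ne v hv with rfl | rfl
    · exact ab (by simpa using this.symm)
    · exact ab2 (by simpa [pow_two] using this.symm)
  subst hsf
  have hσδ : S.Act (σ * δ) false (2 * v) := by
    have hm : ∀ x : G, x ^ ((2 * v : Fin 3) : ℕ) = x ^ ((2 * (v : ℕ)) % 3) := fun x => by rw [Fin.val_mul]; rfl
    constructor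
    · rw [show σ * δ * S.ra * (σ * δ)⁻¹ = σ * (δ * S.ra * δ⁻¹) * σ⁻¹ by group, hδa.1, if_pos rfl,
        ← conj_pow, hσa.1, if_neg Bool.false_ne_true, ← pow_mul, hm, ← pow_eq_pow_mod _ S.rb3, mul_comm]
      rfl
    · rw [show σ * δ * S.rb * (σ * δ)⁻¹ = σ * (δ * S.rb * δ⁻¹) * σ⁻¹ by group, hδa.2, if_pos rfl,
        ← conj_pow, hσa.2, if_neg Bool.false_ne_true, ← pow_mul, hm, ← pow_eq_pow_mod _ S.ra3, mul_comm]
      rfl
  have hσδy : σ * δ * y = y * (σ * δ) := by rw [mul_assoc, hδy, ← mul_assoc, hσy, mul_assoc]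
  have hσδp : S.psi ⟨σ * δ, mul_mem hσ hδ⟩ = E.sw * E.d := by
    show S.psi (⟨σ, hσ⟩ * ⟨δ, hδ⟩) = _
    rw [map_mul, hσp, hδp]
  cases s
  · have hsel : u = v ∨ u = 2 * v := by
      rcases Elem.fin_cases_ne u hu with rfl | rfl <;> rcases Elem.fin_cases_ne v hv with rfl | rfl <;> decide
    rcases hsel with rfl | rfl
    · exact ⟨σ, hσ, hσN, hσy, hσa, Or.inr (Or.inr (Or.inl hσp)), fun h => absurd (hσp.symm.trans h) s1⟩
    · exact ⟨σ * δ, mul_mem hσ hδ, mul_mem hσN hδN, hσδy, hσδ, Or.inr (Or.inr (Or.inr hσδp)),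
        fun h => absurd (hσδp.symm.trans h) sd1⟩
  · rcases Elem.fin_cases_ne u hu with rfl | rfl
    · exact ⟨1, one_mem _, one_mem _, by rw [one_mul, mul_one], by simp [Act], Or.inl (map_one S.psi), fun _ => rfl⟩
    · exact ⟨δ, hδ, hδN, hδy, hδa, Or.inr (Or.inl hδp), fun h => absurd (hδp.symm.trans h) d1⟩

/-- An element of `Nz ∩ C(y)` is a known one times a rotation and a power of `z`. -/
theorem split {n : G} (hn : n ∈ S.Nz) (hy : n * y = y * n) {s : Bool} {u : Fin 3} (ha : S.Act n s u) {m : G}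
    (hm : m ∈ S.Nz) (hmy : m * y = y * m) (hma : S.Act m s u) :
    ∃ r ∈ S.Rot, n = m * r ∨ n = m * r * z := by
  set c := m⁻¹ * n with hc
  have hcD : c ∈ Dg z y := mul_mem (inv_mem (mem_Dg.2 ⟨(S.mem_Nz.1 hm).1, hmy⟩)) (mem_Dg.2 ⟨(S.mem_Nz.1 hn).1, hy⟩)
  have fix : ∀ w, n * w * n⁻¹ = m * w * m⁻¹ → c * w = w * c := fun w h => by
    rw [hc]
    calc m⁻¹ * n * w = m⁻¹ * (n * w * n⁻¹) * n := by group
      _ = m⁻¹ * (m * w * m⁻¹) * n := by rw [h]
      _ = _ := by group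
  rcases cent_rot T S.haS S.haa S.hbS S.hba S.ra3 S.rb3 hcD (fix _ (ha.1.trans hma.1.symm))
    (fix _ (ha.2.trans hma.2.symm)) with h | h
  · exact ⟨c, h, Or.inl (by rw [hc, mul_inv_cancel_left])⟩
  · refine ⟨c * z, h, Or.inr ?_⟩
    rw [mul_assoc, mul_assoc c, Coord.zz T.hyp, mul_one, hc, mul_inv_cancel_left]

theorem fix_conj {n r : G} (hn : n ∈ S.Nz) (hr : r ∈ S.Rot) :
    (Finset.univ.filter fun v : V => K.act (n * r * n⁻¹) v = v).card = (Finset.univ.filter fun v : V => K.act r v = v).card := by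
  have H := T.hyp
  have hnz := (S.mem_Nz.1 hn).1
  have hrz := (mem_Dg.1 (S.rot_le hr)).1
  have hmz := (mem_Dg.1 (S.rot_le (S.conj_rot hn hr))).1
  have key : ∀ v, K.act (n * r * n⁻¹) (K.act n v) = K.act n (K.act r v) := fun v => by
    rw [← K.act_mul H hmz hnz, inv_mul_cancel_right, K.act_mul H hnz hrz]
  symm
  refine Finset.card_bij (fun v _ => K.act n v) (fun v hv => ?_) (fun a _ b _ h => K.act_injective H hnz h) fun w hw => ?_
  · rw [Finset.mem_filter] at hv ⊢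
    exact ⟨Finset.mem_univ _, by rw [key, hv.2]⟩
  · obtain ⟨v, rfl⟩ := (Finite.injective_iff_surjective.1 (K.act_injective H hnz)) w
    rw [Finset.mem_filter, key] at hw
    exact ⟨v, Finset.mem_filter.2 ⟨Finset.mem_univ _, K.act_injective H hnz hw.2⟩, rfl⟩

/-- Elements conjugate to `y` in `Nz` are powers of one rotation. -/
theorem image_cases {n : G} (hn : n ∈ S.Nz) : ∃ i j k : Fin 3, n * y * n⁻¹ = S.tri i j k ∧
    ((i ≠ 0 ∧ j = 0 ∧ k = 0) ∨ (i = 0 ∧ j ≠ 0 ∧ k = 0) ∨ (i = 0 ∧ j = 0 ∧ k ≠ 0)) := by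
  obtain ⟨i, j, k, h⟩ := S.exists_tri (S.conj_rot hn S.y_mem)
  refine ⟨i, j, k, h, fix_sixteen i j k ?_⟩
  rw [← S.tri_act, ← h, S.fix_conj hn S.y_mem, T.act, fix_count]

theorem exists_move_B : ∃ h : G, h * z = z * h ∧ h ∈ normalizer (S.Rot : Set G) ∧ h * y * h⁻¹ ∈ zpowers S.rb := by
  obtain ⟨-, hq, hlen, k, hk⟩ := swap_facts
  obtain ⟨g, hgz, hg⟩ := T.exists_conj_rot sideB S.hbS S.hba S.rb3 LB hq hlen k hk
  obtain ⟨h, h1, h2, h3⟩ := S.exists_norm hgz (zpowers_le.2 S.rb_mem hg)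
  exact ⟨h, h1, h3, h2 ▸ hg⟩

/-- Every candidate is an image of `y`. -/
theorem image_exists (i j k : Fin 3)
    (h : (i ≠ 0 ∧ j = 0 ∧ k = 0) ∨ (i = 0 ∧ j ≠ 0 ∧ k = 0) ∨ (i = 0 ∧ j = 0 ∧ k ≠ 0)) :
    ∃ n ∈ S.Nz, n * y * n⁻¹ = S.tri i j k := by
  obtain ⟨t, htz, hty⟩ := T.exists_invert
  obtain ⟨t', ht'z, ht'y, ht'N⟩ := S.exists_norm htz (by rw [hty]; exact inv_mem S.y_mem)
  rw [hty] at ht'y
  have htN : t' ∈ S.Nz := S.mem_Nz.2 ⟨ht'z, ht'N⟩
  have hyinv : y⁻¹ = y ^ 2 := inv_eq_of_mul_eq_one_right (by rw [← pow_succ', T.y_three])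
  have sign : ∀ {g w : G}, g ∈ S.Nz → w ^ 3 = 1 → g * y * g⁻¹ ∈ zpowers w → ∀ e : Fin 3, e ≠ 0 →
      ∃ n ∈ S.Nz, n * y * n⁻¹ = w ^ (e : ℕ) := by
    intro g w hg hw3 hgy e he
    obtain ⟨m, hm⟩ := (isOfFinOrder_of_finite w).mem_powers_iff_mem_zpowers.2 hgy
    have hm' : g * y * g⁻¹ = w ^ ((m : Fin 3) : ℕ) := by rw [pow_mod_three hw3]; exact hm.symm
    have hm0 : (m : Fin 3) ≠ 0 := fun h0 => by
      rw [h0, Fin.val_zero, pow_zero, conj_eq_one_iff] at hm'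
      have h1 := T.ord
      rw [hm', orderOf_one] at h1
      norm_num at h1
    have he2 : e = (m : Fin 3) ∨ e = (m : Fin 3) + (m : Fin 3) := by
      rcases Elem.fin_cases_ne e he with rfl | rfl <;> rcases Elem.fin_cases_ne _ hm0 with h' | h' <;> rw [h'] <;> decide
    rcases he2 with rfl | rfl
    · exact ⟨g, hg, hm'⟩
    · refine ⟨g * t', mul_mem hg htN, ?_⟩
      rw [show g * t' * y * (g * t')⁻¹ = g * (t' * y * t'⁻¹) * g⁻¹ by group, ht'y, hyinv, ← conj_pow, hm', ← pow_mul,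
        Fin.val_add, ← pow_eq_pow_mod _ hw3, mul_two]
  rcases h with ⟨hi, rfl, rfl⟩ | ⟨rfl, hj, rfl⟩ | ⟨rfl, rfl, hk⟩
  · obtain ⟨g, hgz, hgN, hg⟩ := S.exists_move
    obtain ⟨n, hn, e⟩ := sign (S.mem_Nz.2 ⟨hgz, hgN⟩) S.ra3 hg i hi
    exact ⟨n, hn, by rw [e, S.ra_tri]⟩
  · obtain ⟨g, hgz, hgN, hg⟩ := S.exists_move_B
    obtain ⟨n, hn, e⟩ := sign (S.mem_Nz.2 ⟨hgz, hgN⟩) S.rb3 hg j hj
    exact ⟨n, hn, by rw [e, S.rb_tri]⟩
  · obtain ⟨n, hn, e⟩ := sign (one_mem _) T.y_three (by simp) k hk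
    exact ⟨n, hn, by rw [e, S.y_tri]⟩

theorem card_Nz_ge : 1296 ≤ Nat.card S.Nz := by
  let Sx := {t : Fin 3 × Fin 3 × Fin 3 // (t.1 ≠ 0 ∧ t.2.1 = 0 ∧ t.2.2 = 0) ∨ (t.1 = 0 ∧ t.2.1 ≠ 0 ∧ t.2.2 = 0) ∨
    (t.1 = 0 ∧ t.2.1 = 0 ∧ t.2.2 ≠ 0)}
  let Sy := Bool × {u : Fin 3 // u ≠ 0}
  choose h hhN hh using fun t : Sx => S.image_exists t.1.1 t.1.2.1 t.1.2.2 t.2
  choose m hm hmN hmy hma _ _ using fun p : Sy => S.act_exists p.1 p.2.1 p.2.2
  let f : Sx × Sy × S.Rot × Bool → S.Nz := fun q => ⟨h q.1 * (m q.2.1 * q.2.2.1 * (if q.2.2.2 then z else 1)),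
    mul_mem (hhN _) (mul_mem (mul_mem (hmN _) (S.rot_le_Nz q.2.2.1.2)) (by split <;> [exact S.z_Nz; exact one_mem _]))⟩
  have hf : Function.Injective f := by
    rintro ⟨t, p, r, e⟩ ⟨t', p', r', e'⟩ hq
    have hq' : h t * (m p * r * (if e then z else 1)) = h t' * (m p' * r' * (if e' then z else 1)) :=
      congrArg Subtype.val hq
    have hfix : ∀ (p : Sy) (r : S.Rot) (e : Bool), (m p * r * (if e then z else 1)) * y = y * (m p * r * (if e then z else 1)) :=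
      fun p r e => (((show Commute (m p) y from hmy p).mul_left (S.rot_comm r.2 S.y_mem)).mul_left
        (by split <;> [exact T.yz.symm; exact Commute.one_left _])).eq
    have himg : ∀ (t : Sx) (p : Sy) (r : S.Rot) (e : Bool),
        h t * (m p * r * (if e then z else 1)) * y * (h t * (m p * r * (if e then z else 1)))⁻¹ =
          S.tri t.1.1 t.1.2.1 t.1.2.2 := fun t p r e => by
      rw [mul_assoc (h t), hfix, ← hh t]
      group
    obtain ⟨e1, e2, e3⟩ := S.tri_inj ((himg t p r e).symm.trans ((by rw [hq'] : _ = _).trans (himg t' p' r' e')))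
    obtain rfl : t = t' := Subtype.ext (Prod.ext e1 (Prod.ext e2 e3))
    have hq'' := mul_left_cancel hq'
    have hact : ∀ (p : Sy) (r : S.Rot) (e : Bool), S.Act (m p * r * (if e then z else 1)) p.1 p.2.1 := fun p r e => by
      cases e
      · simpa using S.act_rot r.2 (hma p)
      · simpa using S.act_z (S.act_rot r.2 (hma p))
    obtain ⟨h1, h2⟩ := S.act_unique p.2.2 (hact p r e) (hq'' ▸ hact p' r' e')
    obtain rfl : p = p' := Prod.ext h1 (Subtype.ext h2)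
    rw [mul_assoc, mul_assoc] at hq''
    have h3 := mul_left_cancel hq''
    have hz : z ∉ S.Rot := fun h => S.z_not_mem (S.rot_le_A h)
    cases e <;> cases e' <;> simp only [Bool.false_eq_true, if_false, if_true, mul_one] at h3
    · rw [Subtype.ext h3]
    · have := mul_mem (inv_mem r'.2) r.2
      rw [h3, inv_mul_cancel_left] at this
      exact absurd this hz
    · have := mul_mem (inv_mem r.2) r'.2
      rw [← h3, inv_mul_cancel_left] at this
      exact absurd this hz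
    · rw [Subtype.ext (mul_right_cancel h3)]
  have hc := Nat.card_le_card_of_injective f hf
  have c1 : Nat.card Sx = 6 := by rw [Nat.card_eq_fintype_card]; decide
  have c2 : Nat.card Sy = 4 := by rw [Nat.card_eq_fintype_card]; decide
  have c3 : Nat.card (S.Rot × Bool) = 54 := by
    rw [Nat.card_prod, S.card_Rot, Nat.card_eq_fintype_card, Fintype.card_bool]
  rw [Nat.card_prod, Nat.card_prod Sy, c1, c2, c3] at hc
  omega

end Setup

end CfsgLib.SuzElem
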