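import Mathlib
import Cfsg.Agent.Lib.SuzElem.Norm

/-!
The centralizer of `z` in the normalizer of the rotations acts on the plane inverted by `z` as the full
general linear group, with the rotations as kernel.
-/

set_option autoImplicit false
set_option linter.style.longLine false
set_option linter.style.haveILetI false
set_option linter.unusedSectionVars false
set_option maxHeartbeats 1000000
set_option synthInstance.maxSize 8000
set_option synthInstance.maxHeartbeats 1000000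

namespace CfsgLib.SuzElem

open Subgroup
open CfsgLib.SuzType
open Fin.NatCast

variable {G : Type*} [Group G] [Finite G] {z : G} {Q : Subgroup G}
variable {P : Type} [Group P] [Finite P]

namespace Setup

variable {K : Coord z Q 1} {y : G} {T : Three K y} {E : Elem P} (S : Setup T E)

/-- The element of the inverted plane of given coordinates. -/
noncomputable def wv (v : Fin 2 → ZMod 3) : G := S.x1 ^ (v 0).val * S.x2 ^ (v 1).val

theorem wv_mem (v : Fin 2 → ZMod 3) : S.wv v ∈ S.A := mul_mem (pow_mem S.x1_mem _) (pow_mem S.x2_mem _)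

theorem pow_val_add {g : G} (h : g ^ 3 = 1) (a b : ZMod 3) : g ^ (a + b).val = g ^ a.val * g ^ b.val := by
  rw [← pow_add, ZMod.val_add, ← pow_eq_pow_mod _ h]

theorem wv_add (v w : Fin 2 → ZMod 3) : S.wv (v + w) = S.wv v * S.wv w := by
  rw [wv, Pi.add_apply, Pi.add_apply, pow_val_add S.x1_spec.2.2.2, pow_val_add S.x2_spec.2.2.2, wv, wv,
    mul_assoc (S.x1 ^ (v 0).val), ← mul_assoc (S.x1 ^ (w 0).val),
    ((S.A_comm S.x1_mem S.x2_mem).pow_pow _ _).eq]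
  simp only [mul_assoc]

theorem wv_zero : S.wv 0 = 1 := by simp [wv]

theorem wv_one : S.wv ![1, 0] = S.x1 ∧ S.wv ![0, 1] = S.x2 := by
  constructor <;> simp [wv, ZMod.val_one]

theorem wv_psi (v : Fin 2 → ZMod 3) :
    ∃ h : S.wv v ∈ Cy y, S.psi ⟨S.wv v, h⟩ = E.w1 ^ (v 0).val * E.w2 ^ (v 1).val := by
  obtain ⟨h1, e1, -, -⟩ := S.x1_spec
  obtain ⟨h2, e2, -, -⟩ := S.x2_spec
  refine ⟨mul_mem (pow_mem h1 _) (pow_mem h2 _), ?_⟩
  show S.psi ((⟨S.x1, h1⟩ : ↥(Cy y)) ^ (v 0).val * (⟨S.x2, h2⟩ : ↥(Cy y)) ^ (v 1).val) = _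
  rw [map_mul, map_pow, map_pow, e1, e2]

theorem wv_eq_one {v : Fin 2 → ZMod 3} (h : S.wv v = 1) : v = 0 := by
  obtain ⟨hm, e⟩ := S.wv_psi v
  have e1 : E.w1 ^ (v 0).val * E.w2 ^ (v 1).val = 1 := by
    rw [← e]
    exact (congrArg S.psi (Subtype.ext h)).trans (map_one _)
  obtain ⟨-, -, h0, h1⟩ := E.inj 0 0 ⟨(v 0).val, ZMod.val_lt _⟩ ⟨(v 1).val, ZMod.val_lt _⟩ (by simpa using e1)
  funext i
  fin_cases i
  · exact (ZMod.val_eq_zero _).1 (congrArg Fin.val h0)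
  · exact (ZMod.val_eq_zero _).1 (congrArg Fin.val h1)

theorem wv_injective : Function.Injective S.wv := fun v w h => by
  rw [← sub_eq_zero]
  refine S.wv_eq_one ?_
  have e := S.wv_add (v - w) w
  rw [sub_add_cancel, h] at e
  exact right_eq_mul.mp e

theorem wv_neg (v : Fin 2 → ZMod 3) : S.wv (-v) = (S.wv v)⁻¹ :=
  eq_inv_of_mul_eq_one_left (by rw [← S.wv_add, neg_add_cancel, S.wv_zero])

theorem wv_inv (v : Fin 2 → ZMod 3) : z * S.wv v * z⁻¹ = (S.wv v)⁻¹ := by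
  rw [wv, show z * (S.x1 ^ (v 0).val * S.x2 ^ (v 1).val) * z⁻¹ = (z * S.x1 * z⁻¹) ^ (v 0).val * (z * S.x2 * z⁻¹) ^ (v 1).val by
    rw [conj_pow, conj_pow]; group, S.x1_spec.2.2.1, S.x2_spec.2.2.1, inv_pow, inv_pow, mul_inv_rev]
  exact ((S.A_comm S.x1_mem S.x2_mem).pow_pow _ _).inv_inv.eq

theorem exists_wv {x : G} (hx : x ∈ S.A) (hinv : z * x * z⁻¹ = x⁻¹) : ∃ v, S.wv v = x := by
  obtain ⟨r, hr, k, l, rfl⟩ := S.decomp hx
  set v : Fin 2 → ZMod 3 := ![(k : ZMod 3), (l : ZMod 3)] with hv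
  have hw : S.wv v = S.x1 ^ k * S.x2 ^ l := by
    simp only [wv, hv, Matrix.cons_val_zero, Matrix.cons_val_one, ZMod.val_natCast]
    rw [← pow_eq_pow_mod _ S.x1_spec.2.2.2, ← pow_eq_pow_mod _ S.x2_spec.2.2.2]
  rw [← hw] at hinv ⊢
  refine ⟨v, ?_⟩
  rw [show z * (r * S.wv v) * z⁻¹ = (z * r * z⁻¹) * (z * S.wv v * z⁻¹) by group, S.rot_fix hr, mul_inv_cancel_right,
    S.wv_inv, mul_inv_rev] at hinv
  have h2 : r = r⁻¹ := by
    rw [(S.A_comm (S.rot_le_A hr) (S.wv_mem v)).inv_right.eq] at hinv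
    exact mul_left_cancel hinv
  have h3 := S.rot_pow_three hr
  have hh : r * r = 1 := by nth_rewrite 2 [h2]; exact mul_inv_cancel r
  rw [pow_succ, pow_two, hh, one_mul] at h3
  rw [h3, one_mul]

theorem exists_image (n : S.Nz) (v : Fin 2 → ZMod 3) : ∃ w, S.wv w = n * S.wv v * (n : G)⁻¹ := by
  have hN := S.normalizer_rot_le (S.mem_Nz.1 n.2).2
  refine S.exists_wv ((mem_normalizer_iff.1 hN _).1 (S.wv_mem v)) ?_
  have hzn : Commute z (n : G) := (S.mem_Nz.1 n.2).1.symm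
  calc z * (n * S.wv v * (n : G)⁻¹) * z⁻¹ = (z * n) * S.wv v * ((n : G)⁻¹ * z⁻¹) := by group
    _ = (n * z) * S.wv v * (z⁻¹ * (n : G)⁻¹) := by rw [hzn.eq, hzn.inv_inv.eq]
    _ = n * (z * S.wv v * z⁻¹) * (n : G)⁻¹ := by group
    _ = _ := by rw [S.wv_inv]; group

/-- The action on the plane. -/
noncomputable def lin (n : S.Nz) : (Fin 2 → ZMod 3) →+ (Fin 2 → ZMod 3) :=
  AddMonoidHom.mk' (fun v => (S.exists_image n v).choose) fun v w => S.wv_injective (by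
    rw [(S.exists_image n (v + w)).choose_spec, S.wv_add, S.wv_add, (S.exists_image n v).choose_spec,
      (S.exists_image n w).choose_spec]
    group)

theorem lin_spec (n : S.Nz) (v : Fin 2 → ZMod 3) : S.wv (S.lin n v) = n * S.wv v * (n : G)⁻¹ :=
  (S.exists_image n v).choose_spec

/-- The action as a homomorphism. -/
noncomputable def repr : S.Nz →* GL (Fin 2) (ZMod 3) :=
  MonoidHom.toHomUnits
    { toFun := fun n => LinearMap.toMatrix' ((S.lin n).toZModLinearMap 3)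
      map_one' := by
        have : (S.lin 1).toZModLinearMap 3 = LinearMap.id := LinearMap.ext fun v => S.wv_injective (by
          show S.wv (S.lin 1 v) = S.wv v
          rw [S.lin_spec]; simp)
        rw [this, LinearMap.toMatrix'_id]
      map_mul' := fun n m => by
        have : (S.lin (n * m)).toZModLinearMap 3 = ((S.lin n).toZModLinearMap 3).comp ((S.lin m).toZModLinearMap 3) :=
          LinearMap.ext fun v => S.wv_injective (by
            show S.wv (S.lin (n * m) v) = S.wv (S.lin n (S.lin m v))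
            rw [S.lin_spec, S.lin_spec, S.lin_spec, Subgroup.coe_mul]; group)
        rw [this, LinearMap.toMatrix'_comp] }

theorem repr_ker {n : S.Nz} (h : S.repr n = 1) : (n : G) * S.x1 = S.x1 * n ∧ (n : G) * S.x2 = S.x2 * n := by
  have h' : LinearMap.toMatrix' ((S.lin n).toZModLinearMap 3) = 1 := congrArg Units.val h
  have e : ∀ v, S.lin n v = v := by
    intro v
    have : (S.lin n).toZModLinearMap 3 = LinearMap.id :=
      LinearMap.toMatrix'.injective (h'.trans LinearMap.toMatrix'_id.symm)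
    exact congrArg (fun L : (Fin 2 → ZMod 3) →ₗ[ZMod 3] (Fin 2 → ZMod 3) => L v) this
  have key : ∀ v, (n : G) * S.wv v = S.wv v * n := fun v => by
    have := S.lin_spec n v
    rw [e] at this
    exact mul_inv_eq_iff_eq_mul.1 this.symm
  obtain ⟨h1, h2⟩ := S.wv_one
  exact ⟨h1 ▸ key _, h2 ▸ key _⟩

/-- The kernel predicate. -/
def Fixes (n : G) : Prop := n ∈ S.Nz ∧ Commute n S.x1 ∧ Commute n S.x2

theorem fixes_conj {n k : G} (hn : n ∈ S.Nz) (hk : S.Fixes k) : S.Fixes (n * k * n⁻¹) := by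
  refine ⟨mul_mem (mul_mem hn hk.1) (inv_mem hn), ?_⟩
  have key : ∀ v, Commute (n * k * n⁻¹) (S.wv v) := by
    intro v
    obtain ⟨w, hw⟩ := S.exists_image ⟨n⁻¹, inv_mem hn⟩ v
    change S.wv w = n⁻¹ * S.wv v * n⁻¹⁻¹ at hw
    have hc : Commute k (S.wv w) := (hk.2.1.pow_right _).mul_right (hk.2.2.pow_right _)
    have : S.wv v = (MulAut.conj n) (S.wv w) := by rw [hw, MulAut.conj_apply]; group
    rw [this]
    exact hc.map (MulAut.conj n).toMonoidHom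
  obtain ⟨h1, h2⟩ := S.wv_one
  exact ⟨h1 ▸ key _, h2 ▸ key _⟩

theorem fixes_mem_of_fix {n : G} (hn : S.Fixes n) (hy : n * y = y * n) : n ∈ S.Rot := by
  obtain ⟨hN, c1, c2⟩ := hn
  have hnC : n ∈ Cy y := mem_Cy.2 hy
  obtain ⟨s, u, hu, hact⟩ := S.act_form hN hy
  obtain ⟨m, hmC, hm, hmy, hma, hmp, hm1⟩ := S.act_exists s u hu
  obtain ⟨hx1, e1, -, -⟩ := S.x1_spec
  obtain ⟨hx2, e2, -, -⟩ := S.x2_spec
  have p1 : Commute (S.psi ⟨n, hnC⟩) E.w1 := by
    rw [← e1]; exact (show Commute (⟨n, hnC⟩ : ↥(Cy y)) ⟨S.x1, hx1⟩ from Subtype.ext c1.eq).map S.psi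
  have p2 : Commute (S.psi ⟨n, hnC⟩) E.w2 := by
    rw [← e2]; exact (show Commute (⟨n, hnC⟩ : ↥(Cy y)) ⟨S.x2, hx2⟩ from Subtype.ext c2.eq).map S.psi
  obtain ⟨r, hr, h | h⟩ := S.split hN hy hact hm hmy hma
  · have hrC : r ∈ Cy y := T.DY (S.rot_le hr)
    have hp : S.psi ⟨n, hnC⟩ = S.psi ⟨m, hmC⟩ * S.psi ⟨r, hrC⟩ := by
      rw [← map_mul]; exact congrArg S.psi (Subtype.ext h)
    have hrAB := (S.mem_rot_iff hrC).1 hr
    have key : ∀ w ∈ E.Wg, Commute (S.psi ⟨n, hnC⟩) w → Commute (S.psi ⟨m, hmC⟩) w := by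
      intro w hw hc
      rw [← mul_inv_cancel_right (S.psi ⟨m, hmC⟩) (S.psi ⟨r, hrC⟩), ← hp]
      exact hc.mul_left (E.AB_comm hrAB hw).inv_left
    have h1 : S.psi ⟨m, hmC⟩ = 1 := by
      by_contra hne
      exact (E.moves hmp).2 hne ⟨key _ E.w1_mem p1, key _ E.w2_mem p2⟩
    rw [h, hm1 h1, one_mul]
    exact hr
  · exfalso
    have hrC : r ∈ Cy y := T.DY (S.rot_le hr)
    have hp : S.psi ⟨n, hnC⟩ = S.psi ⟨m, hmC⟩ * E.s * S.psi ⟨r, hrC⟩ := by
      rw [← S.psi_z, ← map_mul, ← map_mul]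
      refine congrArg S.psi (Subtype.ext ?_)
      show n = m * z * r
      rw [h, mul_assoc, ← S.rot_fix hr, mul_assoc]
    have hrAB := (S.mem_rot_iff hrC).1 hr
    have key : ∀ w ∈ E.Wg, Commute (S.psi ⟨n, hnC⟩) w → Commute (S.psi ⟨m, hmC⟩ * E.s) w := by
      intro w hw hc
      rw [← mul_inv_cancel_right (S.psi ⟨m, hmC⟩ * E.s) (S.psi ⟨r, hrC⟩), ← hp]
      exact hc.mul_left (E.AB_comm hrAB hw).inv_left
    exact (E.moves hmp).1 ⟨key _ E.w1_mem p1, key _ E.w2_mem p2⟩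

theorem tri_pow (i : Fin 3) : (S.tri i 0 0)⁻¹ = S.tri (i + i) 0 0 ∧ (S.tri 0 i 0)⁻¹ = S.tri 0 (i + i) 0 := by
  constructor <;> refine inv_eq_of_mul_eq_one_right ?_
  · rw [← S.ra_tri, ← S.ra_tri, ← pow_add, Fin.val_add, ← pow_mod_three S.ra3]
    fin_cases i <;> simp [S.ra3]
  · rw [← S.rb_tri, ← S.rb_tri, ← pow_add, Fin.val_add, ← pow_mod_three S.rb3]
    fin_cases i <;> simp [S.rb3]

/-- No element commuting with the rotations of the first two planes and inverting `y` is induced. -/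
theorem no_invert {n : G} (hn : n * z = z * n) (ha : n * S.ra = S.ra * n) (hb : n * S.rb = S.rb * n)
    (hy : n * y * n⁻¹ = y⁻¹) : False := by
  have H := T.hyp
  have hpC := six_facts.2.1.2.2.2.2
  have hy2 : y⁻¹ = y * y := inv_eq_of_mul_eq_one_right (by rw [← mul_assoc, ← pow_two, ← pow_succ, T.y_three])
  have hny : n * y = y * y * n := by rw [← hy2, ← hy, inv_mul_cancel_right]
  have hyz := T.yz
  have hy2z : y * y * z = z * (y * y) := (Commute.mul_left hyz hyz).eq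
  have hfY : ∀ v, K.act n (Y0 v) = Y0 (Y0 (K.act n v)) := fun v => by
    rw [← T.act, ← K.act_mul H hn hyz, hny, K.act_mul H hy2z hn, K.act_mul H hyz hyz]
  have hrefl : ∀ v, refl pC (Y0 v) = Y0 (Y0 (refl pC v)) := congrFun (eq_six
    (f := fun v => refl pC (Y0 v)) (g := fun v => Y0 (Y0 (refl pC v)))
    (fun a b => by simp only [Y0_add, refl_add]) (fun a b => by simp only [Y0_add, refl_add])
    fun t => (refl_pC_facts t).2.2.1)
  have hrr : ∀ v, refl pC (refl pC v) = v := fun v => refl_refl _ (B_self pC) v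
  let g : V → V := fun v => K.act n (refl pC v)
  have hgadd : ∀ a b, g (a + b) = g a + g b := fun a b => by
    show K.act n _ = _
    rw [refl_add, K.act_add H hn]
  obtain ⟨p, hp | hp⟩ := classify hgadd (fun v => by rw [K.act_q H hn, refl_q 1 pC v (Or.inl hpC)])
    (fun a b h => by simpa [hrr] using congrArg (refl pC) (K.act_injective H hn h))
    (fun v => by show K.act n _ = Y0 (K.act n _); rw [hrefl, hfY, hfY, Y0_three])
  all_goals
    have hgA : ∀ t, g (pmap ((1, 0, 0, 0) : Par) (six t)) = pmap ((1, 0, 0, 0) : Par) (g (six t)) := fun t => by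
      show K.act n _ = _
      rw [(refl_pC_facts t).1, show pmap ((1, 0, 0, 0) : Par) = K.act S.ra from S.haa.symm,
        ← K.act_mul H hn (mem_Dg.1 S.haS.1).1, ha, K.act_mul H (mem_Dg.1 S.haS.1).1 hn]
    have hgB : ∀ t, g (pmap ((0, 1, 0, 0) : Par) (six t)) = pmap ((0, 1, 0, 0) : Par) (g (six t)) := fun t => by
      show K.act n _ = _
      rw [(refl_pC_facts t).2.1, show pmap ((0, 1, 0, 0) : Par) = K.act S.rb from S.hba.symm,
        ← K.act_mul H hn (mem_Dg.1 S.hbS.1).1, hb, K.act_mul H (mem_Dg.1 S.hbS.1).1 hn]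
  · have h0 : p.2.2.2 = 0 := par_commuting p (fun t => by rw [← hp]; exact hgA t) (fun t => by rw [← hp]; exact hgB t)
    set r := S.tri p.1 p.2.1 p.2.2.1 with hr
    have hrz : r * z = z * r := (mem_Dg.1 (S.rot_le (S.tri_mem _ _ _))).1
    refine K.not_refl H hpC (c := r⁻¹ * n) ((Commute.inv_left hrz).mul_left hn).eq fun v => ?_
    refine K.act_injective H hrz ?_
    rw [← K.act_mul H hrz ((Commute.inv_left hrz).mul_left hn).eq, mul_inv_cancel_left]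
    have e : K.act r = pmap p := by
      rw [hr, S.tri_act]
      congr 1
      rw [← h0]
    rw [e, ← hp]
    show K.act n v = K.act n (refl pC (refl pC v))
    rw [hrr]
  · exact odd_moves p ⟨fun t => by
      have := hgA t
      rw [hp] at this
      exact this, fun t => by
      have := hgB t
      rw [hp] at this
      exact this⟩

/-- The kernel of the action consists of rotations. -/
theorem fixes_le {n : G} (hn : S.Fixes n) : n ∈ S.Rot := by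
  by_cases hy : n * y = y * n
  · exact S.fixes_mem_of_fix hn hy
  exfalso
  have one_tri : S.tri 0 0 1 = y := by simp [tri]
  have inv_y : S.tri 0 0 2 = y⁻¹ := by
    simp only [tri, Fin.val_zero, pow_zero, one_mul]
    exact eq_inv_of_mul_eq_one_left (by rw [← pow_succ]; exact T.y_three)
  obtain ⟨δ, hδC, hδ, hδy, hδa, -, -⟩ := S.act_exists true 2 (by decide)
  -- a member inverting `y`
  obtain ⟨μ, hμ, hμy⟩ : ∃ μ, S.Fixes μ ∧ μ * y * μ⁻¹ = y⁻¹ := by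
    obtain ⟨i, j, k, he, hcase⟩ := S.image_cases hn.1
    have inv_image : δ * S.tri i j k * δ⁻¹ = (S.tri i j k)⁻¹ → ∃ μ, S.Fixes μ ∧ μ * y * μ⁻¹ = y⁻¹ := by
      intro hd
      have h' := S.fixes_conj hδ hn
      refine ⟨(δ * n * δ⁻¹)⁻¹ * n, ⟨mul_mem (inv_mem h'.1) hn.1, h'.2.1.inv_left.mul_left hn.2.1,
        h'.2.2.inv_left.mul_left hn.2.2⟩, ?_⟩
      have e2 : δ * n * δ⁻¹ * y⁻¹ * (δ * n * δ⁻¹)⁻¹ = S.tri i j k := by
        have hdy : δ⁻¹ * y⁻¹ * δ = y⁻¹ := by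
          rw [show δ⁻¹ * y⁻¹ * δ = (δ⁻¹ * y * δ)⁻¹ by group, mul_assoc δ⁻¹, ← hδy, inv_mul_cancel_left]
        calc δ * n * δ⁻¹ * y⁻¹ * (δ * n * δ⁻¹)⁻¹ = δ * (n * (δ⁻¹ * y⁻¹ * δ) * n⁻¹) * δ⁻¹ := by group
          _ = δ * (n * y * n⁻¹)⁻¹ * δ⁻¹ := by rw [hdy]; group
          _ = (δ * S.tri i j k * δ⁻¹)⁻¹ := by rw [he]; group
          _ = _ := by rw [hd, inv_inv]
      calc (δ * n * δ⁻¹)⁻¹ * n * y * ((δ * n * δ⁻¹)⁻¹ * n)⁻¹ = (δ * n * δ⁻¹)⁻¹ * (n * y * n⁻¹) * (δ * n * δ⁻¹) := by group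
        _ = (δ * n * δ⁻¹)⁻¹ * (δ * n * δ⁻¹ * y⁻¹ * (δ * n * δ⁻¹)⁻¹) * (δ * n * δ⁻¹) := by rw [he, e2]
        _ = y⁻¹ := by group
    rcases hcase with ⟨hi, rfl, rfl⟩ | ⟨rfl, hj, rfl⟩ | ⟨rfl, rfl, hk⟩
    · refine inv_image ?_
      rw [(S.tri_pow i).1, ← S.ra_tri, ← S.ra_tri, ← conj_pow, hδa.1, if_pos rfl, ← pow_mul, Fin.val_add,
        ← pow_eq_pow_mod _ S.ra3, ← two_mul]
      rfl
    · refine inv_image ?_
      rw [(S.tri_pow j).2, ← S.rb_tri, ← S.rb_tri, ← conj_pow, hδa.2, if_pos rfl, ← pow_mul, Fin.val_add,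
        ← pow_eq_pow_mod _ S.rb3, ← two_mul]
      rfl
    · refine ⟨n, hn, ?_⟩
      rcases Elem.fin_cases_ne k hk with rfl | rfl
      · exact absurd (mul_inv_eq_iff_eq_mul.1 (he.trans one_tri)) hy
      · exact he.trans inv_y
  -- it commutes with the symmetries inside `C(y)` on the rotations
  have hμi : μ⁻¹ * y * μ = y⁻¹ := by
    have e : μ * y⁻¹ * μ⁻¹ = y := by rw [show μ * y⁻¹ * μ⁻¹ = (μ * y * μ⁻¹)⁻¹ by group, hμy, inv_inv]
    calc μ⁻¹ * y * μ = μ⁻¹ * (μ * y⁻¹ * μ⁻¹) * μ := by rw [e]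
      _ = y⁻¹ := by group
  have hswap : ∀ c : G, c ∈ S.Nz → c * y = y * c → ∀ w ∈ S.Rot,
      μ * (c * w * c⁻¹) * μ⁻¹ = c * (μ * w * μ⁻¹) * c⁻¹ := by
    intro c hc hcy w hw
    have hf : S.Fixes (c * μ * c⁻¹ * μ⁻¹) := by
      have h' := S.fixes_conj hc hμ
      exact ⟨mul_mem h'.1 (inv_mem hμ.1), h'.2.1.mul_left hμ.2.1.inv_left, h'.2.2.mul_left hμ.2.2.inv_left⟩
    have hfy : c * μ * c⁻¹ * μ⁻¹ * y = y * (c * μ * c⁻¹ * μ⁻¹) := by
      refine mul_inv_eq_iff_eq_mul.1 ?_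
      have hci : c⁻¹ * y⁻¹ * c = y⁻¹ := by
        rw [show c⁻¹ * y⁻¹ * c = (c⁻¹ * y * c)⁻¹ by group, mul_assoc c⁻¹, ← hcy, inv_mul_cancel_left]
      have hμ2 : μ * y⁻¹ * μ⁻¹ = y := by rw [show μ * y⁻¹ * μ⁻¹ = (μ * y * μ⁻¹)⁻¹ by group, hμy, inv_inv]
      calc c * μ * c⁻¹ * μ⁻¹ * y * (c * μ * c⁻¹ * μ⁻¹)⁻¹ = c * (μ * (c⁻¹ * (μ⁻¹ * y * μ) * c) * μ⁻¹) * c⁻¹ := by group
        _ = y := by rw [hμi, hci, hμ2, hcy, mul_inv_cancel_right]
    have hr := S.fixes_mem_of_fix hf hfy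
    have hc' : Commute (c * μ * c⁻¹ * μ⁻¹) (μ * (c * w * c⁻¹) * μ⁻¹) :=
      S.rot_comm hr (S.conj_rot hμ.1 (S.conj_rot hc hw))
    calc μ * (c * w * c⁻¹) * μ⁻¹ = (c * μ * c⁻¹ * μ⁻¹) * (μ * (c * w * c⁻¹) * μ⁻¹) * (c * μ * c⁻¹ * μ⁻¹)⁻¹ := by
          rw [hc'.eq, mul_inv_cancel_right]
      _ = _ := by group
  -- its action on the pair
  obtain ⟨σ, hσC, hσ, hσy, hσa, -, -⟩ := S.act_exists false 1 (by decide)
  have hσA : σ * S.ra * σ⁻¹ = S.rb := by have := hσa.1; simpa using this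
  have hσB : σ * S.rb * σ⁻¹ = S.ra := by have := hσa.2; simpa using this
  obtain ⟨i, j, k, hmem⟩ := S.exists_tri (S.conj_rot hμ.1 S.ra_mem)
  have hcase : (i ≠ 0 ∧ j = 0 ∧ k = 0) ∨ (i = 0 ∧ j ≠ 0 ∧ k = 0) ∨ (i = 0 ∧ j = 0 ∧ k ≠ 0) := by
    refine fix_sixteen i j k ?_
    rw [← S.tri_act, ← hmem, S.fix_conj hμ.1 S.ra_mem]
    obtain ⟨g, hgz, hgN, hg⟩ := S.exists_move
    obtain ⟨m, hm⟩ := (isOfFinOrder_of_finite S.ra).mem_powers_iff_mem_zpowers.2 hg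
    obtain ⟨n', hn', he'⟩ := S.image_exists 1 0 0 (by decide)
    have : S.ra = n' * y * n'⁻¹ := by rw [he', ← S.ra_tri]; simp
    rw [this, S.fix_conj hn' S.y_mem, T.act, fix_count]
  have hB : μ * S.rb * μ⁻¹ = σ * (μ * S.ra * μ⁻¹) * σ⁻¹ := by rw [← hσA, hswap σ hσ hσy _ S.ra_mem]
  obtain ⟨ν, hν, hνy, hνa, hνb⟩ : ∃ ν ∈ S.Nz, ν * y = y * ν ∧ ν * (μ * S.ra * μ⁻¹) * ν⁻¹ = S.ra ∧
      ν * (μ * S.rb * μ⁻¹) * ν⁻¹ = S.rb := by
    have hinv3 : ∀ u : Fin 3, u ≠ 0 → ∀ x : G, x ^ 3 = 1 → (x ^ (u : ℕ)) ^ (u : ℕ) = x := by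
      intro u hu x hx
      rcases Elem.fin_cases_ne u hu with rfl | rfl
      · simp
      · rw [← pow_mul]; show x ^ 4 = x; rw [pow_succ, hx, one_mul]
    rw [hB, hmem]
    rcases hcase with ⟨hi, rfl, rfl⟩ | ⟨rfl, hj, rfl⟩ | ⟨rfl, rfl, hk⟩
    · obtain ⟨ν, hνC, hν, hνy, hνa, -, -⟩ := S.act_exists true i hi
      have h1 := hνa.1
      have h2 := hνa.2
      rw [if_pos rfl] at h1 h2
      refine ⟨ν, hν, hνy, ?_, ?_⟩
      · rw [← S.ra_tri, ← conj_pow, h1, hinv3 i hi _ S.ra3]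
      · rw [← S.ra_tri, ← conj_pow, hσA, ← conj_pow, h2, hinv3 i hi _ S.rb3]
    · obtain ⟨ν, hνC, hν, hνy, hνa, -, -⟩ := S.act_exists false j hj
      have h1 := hνa.1
      have h2 := hνa.2
      rw [if_neg Bool.false_ne_true] at h1 h2
      refine ⟨ν, hν, hνy, ?_, ?_⟩
      · rw [← S.rb_tri, ← conj_pow, h2, hinv3 j hj _ S.ra3]
      · rw [← S.rb_tri, ← conj_pow, hσB, ← conj_pow, h1, hinv3 j hj _ S.rb3]
    · exfalso
      rcases Elem.fin_cases_ne k hk with rfl | rfl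
      · have : S.ra = y⁻¹ := by
          calc S.ra = μ⁻¹ * (μ * S.ra * μ⁻¹) * μ := by group
            _ = y⁻¹ := by rw [hmem, one_tri, hμi]
        replace this := this.trans inv_y.symm
        exact absurd (S.tri_inj ((by simp [tri] : S.tri 1 0 0 = S.ra).trans this)).1 (by decide)
      · have : S.ra = y := by
          calc S.ra = μ⁻¹ * (μ * S.ra * μ⁻¹) * μ := by group
            _ = (μ⁻¹ * y * μ)⁻¹ := by rw [hmem, inv_y]; group
            _ = y := by rw [hμi, inv_inv]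
        replace this := this.trans one_tri.symm
        exact absurd (S.tri_inj ((by simp [tri] : S.tri 1 0 0 = S.ra).trans this)).1 (by decide)
  refine S.no_invert (n := ν * μ) ?_ ?_ ?_ ?_
  · exact (Commute.mul_left (S.mem_Nz.1 hν).1 (S.mem_Nz.1 hμ.1).1).eq
  · refine mul_inv_eq_iff_eq_mul.1 ?_
    rw [show ν * μ * S.ra * (ν * μ)⁻¹ = ν * (μ * S.ra * μ⁻¹) * ν⁻¹ by group, hνa]
  · refine mul_inv_eq_iff_eq_mul.1 ?_
    rw [show ν * μ * S.rb * (ν * μ)⁻¹ = ν * (μ * S.rb * μ⁻¹) * ν⁻¹ by group, hνb]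
  · rw [show ν * μ * y * (ν * μ)⁻¹ = ν * (μ * y * μ⁻¹) * ν⁻¹ by group, hμy,
      show ν * y⁻¹ * ν⁻¹ = (ν * y * ν⁻¹)⁻¹ by group, hνy, mul_inv_cancel_right]

theorem rot_fixes {r : G} (hr : r ∈ S.Rot) : S.Fixes r :=
  ⟨S.rot_le_Nz hr, S.rot_comm_A hr S.x1_mem, S.rot_comm_A hr S.x2_mem⟩

theorem mem_ker {n : S.Nz} : S.repr n = 1 ↔ (n : G) ∈ S.Rot := by
  constructor
  · intro h
    obtain ⟨h1, h2⟩ := S.repr_ker h
    exact S.fixes_le ⟨n.2, h1, h2⟩
  · intro h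
    refine Units.ext ?_
    show LinearMap.toMatrix' ((S.lin n).toZModLinearMap 3) = 1
    have : (S.lin n).toZModLinearMap 3 = LinearMap.id := LinearMap.ext fun v => S.wv_injective (by
      show S.wv (S.lin n v) = S.wv v
      rw [S.lin_spec, (S.rot_comm_A h (S.wv_mem v)).eq, mul_inv_cancel_right])
    rw [this, LinearMap.toMatrix'_id]

theorem card_GL : Nat.card (GL (Fin 2) (ZMod 3)) = 48 := by
  rw [Matrix.card_GL_field, Fin.prod_univ_two, ZMod.card]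
  norm_num

theorem repr_surjective : Function.Surjective S.repr := by
  have hker : Nat.card S.repr.ker = 27 := by
    rw [← S.card_Rot]
    refine Nat.card_congr ⟨fun c => ⟨c.1.1, S.mem_ker.1 c.2⟩, fun r => ⟨⟨r.1, S.rot_le_Nz r.2⟩, S.mem_ker.2 r.2⟩,
      fun c => rfl, fun r => rfl⟩
  have h := card_eq_card_quotient_mul_card_subgroup S.repr.ker
  rw [Nat.card_congr (QuotientGroup.quotientKerEquivRange S.repr).toEquiv, hker] at h
  have hge := S.card_Nz_ge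
  rw [h] at hge
  refine MonoidHom.range_eq_top.1 (eq_top_of_le_card _ ?_)
  rw [card_GL]
  omega

end Setup

end CfsgLib.SuzElem
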