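import Mathlib
import Cfsg.Agent.Lib.SuzElem.Plane
import Cfsg.Agent.Lib.SuzElem.GLTwoThree
import Cfsg.Agent.Lib.SuzType.FiveNorm
import Cfsg.Agent.Classical.SLBasic
import Cfsg.Agent.S2916

/-!
The normalizer of the group of order 243 modulo that group is the Mathieu group of degree eleven.
-/

set_option autoImplicit false
set_option linter.style.longLine false
set_option linter.style.haveILetI false
set_option linter.unusedSectionVars false
set_option maxHeartbeats 1000000
set_option synthInstance.maxSize 8000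
set_option synthInstance.maxHeartbeats 1000000

namespace CfsgLib.SuzElem

open Subgroup
open CfsgLib.SuzType

theorem card_psl_three (F : Type) [Field F] [Fintype F] (hF : Fintype.card F = 3) :
    Nat.card (Matrix.ProjectiveSpecialLinearGroup (Fin 3) F) = 5616 := by
  have h := Cfsg.Agent.Classical.card_psl_mul (F := F) 3 (by norm_num)
  rw [Fin.prod_univ_three, hF] at h
  generalize Nat.card (Matrix.ProjectiveSpecialLinearGroup (Fin 3) F) = x at h ⊢
  norm_num at h
  omega

variable {G : Type*} [Group G] [Finite G] {z : G} {Q : Subgroup G}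
variable {P : Type} [Group P] [Finite P]

namespace Setup

variable {K : Coord z Q 1} {y : G} {T : Three K y} {E : Elem P} (S : Setup T E)

theorem z_norm : z ∈ normalizer (S.A : Set G) := mem_normalizer_fintype fun _ hx => S.z_inv_A hx

theorem nz_le : S.Nz ≤ normalizer (S.A : Set G) := fun _ hn => S.normalizer_rot_le (S.mem_Nz.1 hn).2

/-- The group `A` inside its normalizer. -/
abbrev An : Subgroup ↥(normalizer (S.A : Set G)) := S.A.subgroupOf (normalizer (S.A : Set G))

/-- The image of `z`. -/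
def zq : ↥(normalizer (S.A : Set G)) ⧸ S.An := QuotientGroup.mk' S.An ⟨z, S.z_norm⟩

theorem zq_ord : orderOf S.zq = 2 := by
  have : Fact (Nat.Prime 2) := ⟨Nat.prime_two⟩
  refine orderOf_eq_prime ?_ fun h => S.z_not_mem ((QuotientGroup.eq_one_iff _).1 h : _)
  rw [zq, ← map_pow, show (⟨z, S.z_norm⟩ : ↥(normalizer (S.A : Set G))) ^ 2 = 1 from Subtype.ext (by
    show z ^ 2 = 1
    rw [pow_two, Coord.zz T.hyp]), map_one]

theorem A_cz {n : G} (hn : n * z = z * n) : n ∈ S.A ↔ n ∈ S.Rot :=
  ⟨fun h => S.A_inf h hn.symm, fun h => S.rot_le_A h⟩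

theorem mem_Nz_of {n : G} (hN : n ∈ normalizer (S.A : Set G)) (hn : n * z = z * n) : n ∈ S.Nz := by
  refine S.mem_Nz.2 ⟨hn, mem_normalizer_fintype fun r hr => S.A_inf ((mem_normalizer_iff.1 hN r).1 (S.rot_le_A hr)) ?_⟩
  exact ((((show Commute n z from hn).mul_left (show Commute r z from (S.rot_fix hr).symm)).mul_left
    (show Commute n z from hn).inv_left).eq).symm

theorem cent_equiv : Nonempty (↥(centralizer ({S.zq} : Set (↥(normalizer (S.A : Set G)) ⧸ S.An))) ≃* GL (Fin 2) (ZMod 3)) := by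
  let ρ : S.Nz →* ↥(centralizer ({S.zq} : Set (↥(normalizer (S.A : Set G)) ⧸ S.An))) :=
    ((QuotientGroup.mk' S.An).comp (Subgroup.inclusion S.nz_le)).codRestrict _ fun n => by
      refine mem_centralizer_singleton_iff.2 ?_
      show QuotientGroup.mk' S.An _ * QuotientGroup.mk' S.An _ = QuotientGroup.mk' S.An _ * QuotientGroup.mk' S.An _
      rw [← map_mul, ← map_mul]
      exact congrArg _ (Subtype.ext (S.mem_Nz.1 n.2).1)
  have hker : ρ.ker = S.repr.ker := by
    ext n
    rw [MonoidHom.mem_ker, MonoidHom.mem_ker, S.mem_ker, ← S.A_cz (S.mem_Nz.1 n.2).1, Subtype.ext_iff]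
    exact QuotientGroup.eq_one_iff _
  have hsurj : Function.Surjective ρ := by
    rintro ⟨c, hc⟩
    obtain ⟨⟨n, hn⟩, rfl⟩ := QuotientGroup.mk'_surjective _ c
    have hc' := mem_centralizer_singleton_iff.1 hc
    rw [zq, ← map_mul, ← map_mul] at hc'
    rw [QuotientGroup.mk'_apply, QuotientGroup.mk'_apply] at hc'
    have hx : (n * z)⁻¹ * (z * n) ∈ S.A := by
      have h' := QuotientGroup.eq.1 hc'
      exact h'
    set x := (n * z)⁻¹ * (z * n) with hxdef
    have hzz := Coord.zz T.hyp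
    have hzi := Coord.z_inv T.hyp
    have hinv : z * x * z⁻¹ = x⁻¹ := by
      rw [hxdef]
      simp only [mul_inv_rev, inv_inv, hzi, ← mul_assoc, hzz, one_mul]
    have hx3 := S.A_pow_three hx
    have hznx : z * n * z = n * x⁻¹ := by
      rw [hxdef]
      simp only [mul_inv_rev, inv_inv, hzi, ← mul_assoc, mul_inv_cancel, one_mul]
    have hN' : n * x ∈ normalizer (S.A : Set G) := mul_mem hn (Subgroup.le_normalizer hx)
    have hcomm : n * x * z = z * (n * x) := by
      have h1 : z * x = x⁻¹ * z := mul_inv_eq_iff_eq_mul.1 hinv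
      have h2 : x⁻¹ * x⁻¹ = x := by
        rw [← mul_inv_rev]
        exact inv_eq_of_mul_eq_one_right (by rw [← pow_two, ← pow_succ, hx3])
      have h3 : z * (n * x) * z = n * x := by
        calc z * (n * x) * z = (z * n * z) * (z * x * z⁻¹) := by
              rw [hzi]
              simp only [mul_assoc]
              rw [← mul_assoc z z, hzz, one_mul]
          _ = _ := by rw [hznx, hinv, mul_assoc, h2]
      calc n * x * z = z * (n * x) * z * z := by rw [h3]
        _ = _ := by rw [mul_assoc _ z z, hzz, mul_one]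
    refine ⟨⟨n * x, S.mem_Nz_of hN' hcomm⟩, Subtype.ext ?_⟩
    show QuotientGroup.mk' S.An ⟨n * x, hN'⟩ = QuotientGroup.mk' S.An ⟨n, hn⟩
    refine QuotientGroup.eq.2 ?_
    show (n * x)⁻¹ * n ∈ S.A
    rw [mul_inv_rev, inv_mul_cancel_right]
    exact inv_mem hx
  exact ⟨(QuotientGroup.quotientKerEquivOfSurjective ρ hsurj).symm.trans
    ((QuotientGroup.quotientMulEquivOfEq hker).trans (QuotientGroup.quotientKerEquivOfSurjective S.repr S.repr_surjective))⟩

theorem f_U {u : P} (hu : u ∈ E.U) : E.f * u * E.f⁻¹ ∈ E.U := by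
  obtain ⟨u', ⟨i, j, rfl⟩, v, ⟨k, l, rfl⟩, rfl⟩ := hu
  have hA := fun n => E.AB_le_U (pow_mem E.a_mem n)
  have hB := fun n => E.AB_le_U (pow_mem E.b_mem n)
  have hW := fun n => E.Wg_le_U (pow_mem E.w1_mem n)
  rw [show E.f * (E.a ^ i * E.b ^ j * (E.w1 ^ k * E.w2 ^ l)) * E.f⁻¹ =
      (E.f * E.a * E.f⁻¹) ^ i * (E.f * E.b * E.f⁻¹) ^ j * ((E.f * E.w1 * E.f⁻¹) ^ k * (E.f * E.w2 * E.f⁻¹) ^ l) by
    simp only [conj_pow]; group, E.fa, E.fb, E.fw1, E.fw2]
  simp only [mul_inv_cancel_right]
  have ha2 := hA 2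
  have hb2 := hB 2
  refine mul_mem (mul_mem (pow_mem (mul_mem (mul_mem ha2 hb2) (hW 2)) _) (pow_mem (mul_mem (mul_mem ha2 hb2) ?_) _))
    (mul_mem (pow_mem (E.Wg_le_U E.w2_mem) _) (pow_mem (mul_mem ?_ hb2) _))
  · exact E.Wg_le_U E.w1_mem
  · exact E.AB_le_U E.a_mem

theorem not_central : S.zq ∉ center (↥(normalizer (S.A : Set G)) ⧸ S.An) := by
  intro hc
  obtain ⟨φ, hφ⟩ := S.surj E.f
  have hN : (φ : G) ∈ normalizer (S.A : Set G) := mem_normalizer_fintype fun x hx => by
    obtain ⟨hxC, hxU⟩ := S.mem_A.1 hx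
    refine S.mem_A.2 ⟨mul_mem (mul_mem φ.2 hxC) (inv_mem φ.2), ?_⟩
    show S.psi (φ * ⟨x, hxC⟩ * φ⁻¹) ∈ E.U
    rw [map_mul, map_mul, map_inv, hφ]
    exact f_U hxU
  have h := mem_center_iff.1 hc (QuotientGroup.mk' S.An ⟨φ, hN⟩)
  rw [zq, ← map_mul, ← map_mul] at h
  rw [QuotientGroup.mk'_apply, QuotientGroup.mk'_apply] at h
  have hmem : ((φ : G) * z)⁻¹ * (z * φ) ∈ S.A := by
    have h' := QuotientGroup.eq.1 h
    exact h'
  have hmem' : (φ : G) * z * (φ : G)⁻¹ * z ∈ S.A := by
    have := (mem_normalizer_iff.1 hN _).1 hmem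
    rw [show (φ : G) * (((φ : G) * z)⁻¹ * (z * φ)) * (φ : G)⁻¹ = (φ : G) * z⁻¹ * (φ : G)⁻¹ * z by group,
      Coord.z_inv T.hyp] at this
    exact this
  have h3 := S.A_pow_three hmem'
  refine E.fs ?_
  have : E.f * E.s * E.f⁻¹ * E.s = S.psi (φ * ⟨z, T.zY⟩ * φ⁻¹ * ⟨z, T.zY⟩) := by
    rw [map_mul, map_mul, map_mul, map_inv, hφ, S.psi_z]
  rw [this, ← map_pow]
  exact (congrArg S.psi (Subtype.ext h3)).trans (map_one _)

theorem card_normalizer_A : Nat.card ↥(normalizer (S.A : Set G)) =
    Nat.card (↥(normalizer (S.A : Set G)) ⧸ S.An) * 243 := by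
  rw [card_eq_card_quotient_mul_card_subgroup S.An,
    Nat.card_congr (subgroupOfEquivOfLe Subgroup.le_normalizer).toEquiv, S.card_A]

theorem residual : Cfsg.pResidual 2 (↥(normalizer (S.A : Set G)) ⧸ S.An) = ⊤ := by
  have h5f : Fact (Nat.Prime 5) := ⟨Nat.prime_five⟩
  obtain ⟨e⟩ := S.cent_equiv
  rcases residual_or S.zq_ord e with h | ⟨O, hO, hcard, hodd, hsq, h1⟩
  · exact h
  exfalso
  have hdvdG : Nat.card ↥(normalizer (S.A : Set G)) ∣ 448345497600 := by
    rw [← T.hyp.card_G]; exact card_subgroup_dvd_card _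
  have hN := S.card_normalizer_A
  rw [hcard] at hN
  set o := Nat.card O with ho
  rw [hN] at hdvdG
  have ho75 : o ∣ 75075 := by
    have : o * 11664 ∣ (2 ^ 9 * 75075) * 11664 := by
      rw [show o * 11664 = 48 * o * 243 by ring]
      exact hdvdG.trans (dvd_of_eq (by norm_num))
    have h' := Nat.dvd_of_mul_dvd_mul_right (by norm_num : 0 < 11664) this
    exact (Nat.Coprime.pow_right 9 (Nat.coprime_two_right.2 hodd)).dvd_of_dvd_mul_left h'
  have hfive : ∀ p : ℕ, p.Prime → p ∣ o → p = 5 := by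
    intro p hp hpo
    have h2 := (hsq p hp hpo).trans ho75
    have hle : p ^ 2 ≤ 75075 := Nat.le_of_dvd (by norm_num) h2
    have hle' : p ≤ 273 := by
      by_contra hcon
      push Not at hcon
      have h274 : 274 ^ 2 ≤ p ^ 2 := Nat.pow_le_pow_left hcon 2
      norm_num at h274
      omega
    have hp3 : p ∣ 75075 := (dvd_pow_self p two_ne_zero).trans h2
    have hmem : p ∈ Nat.primeFactors 75075 := Nat.mem_primeFactors.2 ⟨hp, hp3, by norm_num⟩
    have hset : ∀ q : ℕ, q ≤ 273 → q ^ 2 ∣ 75075 → q = 1 ∨ q = 5 := by decide +kernel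
    rcases hset p hle' h2 with h | h
    · exact absurd h hp.one_lt.ne'
    · exact h
  have ho25 : o ∣ 25 := by
    refine (Nat.dvd_iff_prime_pow_dvd_dvd _ _).2 fun p k hp hd => ?_
    rcases Nat.eq_zero_or_pos k with rfl | hk
    · simp
    obtain rfl := hfive p hp ((dvd_pow_self p hk.ne').trans hd)
    have := hd.trans ho75
    exact (Nat.Coprime.pow_left k (by norm_num : Nat.Coprime 5 3003)).dvd_of_dvd_mul_left
      (show 5 ^ k ∣ 3003 * 25 from this)
  have hcases : o = 1 ∨ o = 25 := by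
    have hle := Nat.le_of_dvd (by norm_num) ho25
    rcases (Nat.dvd_prime Nat.prime_five).1 (show Nat.gcd o 5 ∣ 5 from Nat.gcd_dvd_right _ _) with h | h
    · exact Or.inl (Nat.eq_one_of_dvd_coprimes (Nat.Coprime.pow_right 2 h) dvd_rfl (show o ∣ 5 ^ 2 from ho25))
    · have h5 : 5 ∣ o := h ▸ Nat.gcd_dvd_left o 5
      exact Or.inr (Nat.dvd_antisymm ho25 (hsq 5 Nat.prime_five h5))
  rcases hcases with ho1 | ho1
  · exact S.not_central (h1 ho1)
  -- the Sylow subgroup of order twenty-five
  let π := QuotientGroup.mk' S.An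
  have hπ : Function.Surjective π := QuotientGroup.mk'_surjective _
  set W : Subgroup ↥(normalizer (S.A : Set G)) := O.comap π with hW
  haveI : W.Normal := Normal.comap hO π
  have hWi : W.index = 48 := by
    rw [hW, index_comap_of_surjective _ hπ]
    have := O.card_mul_index
    rw [hcard, ← ho, ho1] at this
    omega
  have hWc : Nat.card W = 25 * 243 := by
    have := W.card_mul_index
    rw [hWi, hN, ho1] at this
    omega
  obtain ⟨R⟩ : Nonempty (Sylow 5 ↥W) := inferInstance
  have hR : Nat.card (R : Subgroup ↥W) = 25 := by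
    rw [R.card_eq_multiplicity, hWc, show 25 * 243 = 5 ^ 2 * 243 from rfl,
      Nat.factorization_mul (by norm_num) (by norm_num), Finsupp.add_apply, Nat.prime_five.factorization_pow,
      Finsupp.single_eq_same, Nat.factorization_eq_zero_of_not_dvd (by norm_num : ¬ 5 ∣ 243)]
    rfl
  set R1 := (R : Subgroup ↥W).map W.subtype with hR1
  set N1 := normalizer (R1 : Set ↥(normalizer (S.A : Set G))) with hN1
  have h48 : 48 ∣ Nat.card N1 := by
    let f := (QuotientGroup.mk' W).comp N1.subtype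
    have hf : Function.Surjective f := by
      intro q
      obtain ⟨g, rfl⟩ := QuotientGroup.mk'_surjective _ q
      have hg : g ∈ N1 ⊔ W := by rw [hN1, hR1, Sylow.normalizer_sup_eq_top R]; exact mem_top g
      obtain ⟨a, ha, b, hb, rfl⟩ := mem_sup_of_normal_right.1 hg
      refine ⟨⟨a, ha⟩, ?_⟩
      show QuotientGroup.mk' W a = QuotientGroup.mk' W (a * b)
      exact QuotientGroup.eq.2 (by rwa [inv_mul_cancel_left])
    rw [← hWi, index_eq_card]
    exact card_dvd_of_surjective f hf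
  set R2 := R1.map (normalizer (S.A : Set G)).subtype with hR2
  have hR2c : Nat.card R2 = 25 := by
    rw [hR2, card_map_of_injective (subtype_injective _), hR1, card_map_of_injective (subtype_injective _), hR]
  let R3 : Sylow 5 G := (IsPGroup.of_card (n := 2) (by rw [hR2c]; norm_num)).toSylow (fun h => by
    have := R2.card_mul_index
    rw [hR2c, T.hyp.card_G] at this
    omega)
  obtain ⟨-, -, h600, -⟩ := T.hyp.five_norm R3
  have hle : N1.map (normalizer (S.A : Set G)).subtype ≤ normalizer ((R3 : Subgroup G) : Set G) :=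
    le_normalizer_map _
  have := card_dvd_of_le hle
  rw [card_map_of_injective (subtype_injective _), h600] at this
  have h600' : 48 ∣ 600 := h48.trans this
  norm_num at h600'

theorem isoM11 [hn : S.An.Normal] : Cfsg.Spor.IsoM11 (↥(normalizer (S.A : Set G)) ⧸ S.An) := by
  rcases Cfsg.Agent.S2916.result S.residual S.zq S.zq_ord S.cent_equiv with ⟨F, hF, hFt, hFc, ⟨e⟩⟩ | h
  · exfalso
    have hc := S.card_normalizer_A
    rw [Nat.card_congr e.toEquiv, card_psl_three F hFc] at hc
    have := card_subgroup_dvd_card (normalizer (S.A : Set G))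
    rw [hc, T.hyp.card_G] at this
    norm_num at this
  · exact h

end Setup

end CfsgLib.SuzElem
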