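import Mathlib
import Cfsg.Agent.Lib.SuzElem.Quot

/-!
A Sylow subgroup of the normalizer of `⟨y⟩` contains a copy of the group of order 243.
-/

set_option autoImplicit false
set_option linter.style.longLine false
set_option linter.style.haveILetI false
set_option linter.unusedSectionVars false
set_option maxHeartbeats 1000000
set_option synthInstance.maxSize 8000
set_option synthInstance.maxHeartbeats 1000000

namespace CfsgLib.SuzElem

open Subgroup
open CfsgLib.SuzType

variable {G : Type*} [Group G] [Finite G] {z : G} {Q : Subgroup G}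
variable {P : Type} [Group P] [Finite P]

/-- Conjugation carries a self-centralizing subgroup with given automizer to one of the same kind. -/
theorem transfer (A : Subgroup G) (φ : G ≃* G) (hC : centralizer (A : Set G) = A)
    (h : ∀ [(A.subgroupOf (normalizer (A : Set G))).Normal],
      Cfsg.Spor.IsoM11 (↥(normalizer (A : Set G)) ⧸ A.subgroupOf (normalizer (A : Set G)))) :
    centralizer ((A.map φ.toMonoidHom : Subgroup G) : Set G) = A.map φ.toMonoidHom ∧
      ∃ _ : ((A.map φ.toMonoidHom).subgroupOf (normalizer ((A.map φ.toMonoidHom : Subgroup G) : Set G))).Normal,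
        Cfsg.Spor.IsoM11 (↥(normalizer ((A.map φ.toMonoidHom : Subgroup G) : Set G)) ⧸
          (A.map φ.toMonoidHom).subgroupOf (normalizer ((A.map φ.toMonoidHom : Subgroup G) : Set G))) := by
  set B := A.map φ.toMonoidHom with hB
  have hm : ∀ x : G, φ x ∈ B ↔ x ∈ A := fun x => ⟨fun ⟨a, ha, e⟩ => φ.injective e ▸ ha, fun hx => ⟨x, hx, rfl⟩⟩
  refine ⟨?_, ?_⟩
  · ext c
    obtain ⟨c, rfl⟩ := φ.surjective c
    rw [hm, mem_centralizer_iff]
    constructor
    · intro hc
      rw [← hC, mem_centralizer_iff]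
      intro a ha
      exact φ.injective (by rw [map_mul, map_mul]; exact hc _ ((hm a).2 ha))
    · intro hc b hb
      obtain ⟨a, ha, rfl⟩ := hb
      rw [← hC, mem_centralizer_iff] at hc
      show φ a * φ c = φ c * φ a
      rw [← map_mul, ← map_mul, hc a ha]
  have hN : (normalizer (A : Set G)).map φ.toMonoidHom = normalizer (B : Set G) := by
    ext n
    obtain ⟨n, rfl⟩ := φ.surjective n
    constructor
    · rintro ⟨m, hm', e⟩
      obtain rfl := φ.injective e
      refine mem_normalizer_iff.2 fun w => ?_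
      obtain ⟨w, rfl⟩ := φ.surjective w
      rw [← map_inv, ← map_mul, ← map_mul, hm, hm]
      exact mem_normalizer_iff.1 hm' w
    · intro hn
      refine ⟨n, mem_normalizer_iff.2 fun w => ?_, rfl⟩
      rw [← hm w, ← hm (n * w * n⁻¹), map_mul, map_mul, map_inv]
      exact mem_normalizer_iff.1 hn (φ w)
  haveI : (A.subgroupOf (normalizer (A : Set G))).Normal := Subgroup.normal_in_normalizer
  haveI hBn : (B.subgroupOf (normalizer (B : Set G))).Normal := Subgroup.normal_in_normalizer
  obtain ⟨e⟩ := h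
  let ε : ↥(normalizer (A : Set G)) ≃* ↥(normalizer (B : Set G)) :=
    (φ.subgroupMap (normalizer (A : Set G))).trans (MulEquiv.subgroupCongr hN)
  refine ⟨hBn, ⟨(QuotientGroup.congr _ _ ε ?_).symm.trans e⟩⟩
  ext b
  constructor
  · rintro ⟨a, ha, rfl⟩
    exact (hm _).2 ha
  · intro hb
    obtain ⟨a, rfl⟩ := ε.surjective b
    exact ⟨a, (hm _).1 hb, rfl⟩

namespace Setup

variable {K : Coord z Q 1} {y : G} {T : Three K y} {E : Elem P} (S : Setup T E)

include S in
theorem conclusion (hcard : Nat.card (↥(Cy y) ⧸ Zy y) = 2 ^ 7 * 3 ^ 6 * 5 * 7) (W : Subgroup G) (hW : W = zpowers y)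
    (Pm : Sylow 3 ↥(normalizer (W : Set G))) :
    ¬ 3 ∣ ((Pm : Subgroup ↥(normalizer (W : Set G))).map (normalizer (W : Set G)).subtype).index ∧
      ∃ A : Subgroup G, A ≤ (Pm : Subgroup ↥(normalizer (W : Set G))).map (normalizer (W : Set G)).subtype ∧
        Cfsg.IsElementaryAbelian 3 A ∧ Nat.card A = 3 ^ 5 ∧ centralizer (A : Set G) = A ∧
        ∃ _ : (A.subgroupOf (normalizer (A : Set G))).Normal,
          Cfsg.Spor.IsoM11 (↥(normalizer (A : Set G)) ⧸ A.subgroupOf (normalizer (A : Set G))) := by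
  have h3f : Fact (Nat.Prime 3) := ⟨Nat.prime_three⟩
  subst hW
  have hCy : Cy y ≤ normalizer (zpowers y : Set G) := T.Cy_le_normalizer
  have hCyc : Nat.card ↥(Cy y) = 2 ^ 7 * 3 ^ 7 * 5 * 7 := by
    have hZ : Nat.card ↥(Zy y) = 3 := by
      show Nat.card ↥((zpowers y).subgroupOf (Cy y)) = 3
      rw [Nat.card_congr (subgroupOfEquivOfLe (zpowers_le.2 (mem_Cy.2 rfl : y ∈ Cy y))).toEquiv, Nat.card_zpowers, T.ord]
    rw [card_eq_card_quotient_mul_card_subgroup (Zy y), hcard, hZ]
    norm_num
  refine ⟨?_, ?_⟩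
  · intro hdiv
    have h37 : 3 ^ 7 ∣ Nat.card (Pm : Subgroup ↥(normalizer (zpowers y : Set G))) := by
      refine Pm.pow_dvd_card_of_pow_dvd_card ?_
      refine dvd_trans ?_ (card_dvd_of_le hCy)
      rw [hCyc]
      norm_num
    set R := (Pm : Subgroup ↥(normalizer (zpowers y : Set G))).map (normalizer (zpowers y : Set G)).subtype with hR
    have h := R.card_mul_index
    have hRc : Nat.card R = Nat.card (Pm : Subgroup ↥(normalizer (zpowers y : Set G))) :=
      card_map_of_injective (subtype_injective _)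
    have h38 : 3 ^ 8 ∣ Nat.card G := by
      rw [← h, hRc, pow_succ]
      exact Nat.mul_dvd_mul h37 hdiv
    rw [T.hyp.card_G] at h38
    norm_num at h38
  · have hp : IsPGroup 3 (S.A.subgroupOf (normalizer (zpowers y : Set G))) := IsPGroup.of_card (n := 5) (by
      rw [Nat.card_congr (subgroupOfEquivOfLe (S.A_le.trans hCy)).toEquiv, S.card_A]; norm_num)
    obtain ⟨R, hR⟩ := hp.exists_le_sylow
    obtain ⟨g, hg⟩ := MulAction.exists_smul_eq ↥(normalizer (zpowers y : Set G)) R Pm
    have hn : (S.A.subgroupOf (normalizer (S.A : Set G))).Normal := Subgroup.normal_in_normalizer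
    obtain ⟨h1, h2⟩ := transfer S.A (MulAut.conj (g : G)) S.centralizer_A (fun {_} => S.isoM11)
    refine ⟨S.A.map (MulAut.conj (g : G)).toMonoidHom, ?_, ?_, ?_, h1, h2⟩
    · rintro _ ⟨x, hx, rfl⟩
      have hxN : x ∈ normalizer (zpowers y : Set G) := hCy (S.A_le hx)
      have hm : g * ⟨x, hxN⟩ * g⁻¹ ∈ (g • R : Sylow 3 ↥(normalizer (zpowers y : Set G))) :=
        ⟨⟨x, hxN⟩, hR hx, rfl⟩
      rw [hg] at hm
      exact ⟨_, hm, rfl⟩
    · refine ⟨⟨⟨?_⟩⟩, ?_⟩
      · rintro ⟨_, a, ha, rfl⟩ ⟨_, b, hb, rfl⟩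
        refine Subtype.ext ?_
        exact ((S.A_comm ha hb).map (MulAut.conj (g : G)).toMonoidHom).eq
      · rintro _ ⟨a, ha, rfl⟩
        show (MulAut.conj (g : G)) a ^ 3 = 1
        rw [← map_pow, S.A_pow_three ha, map_one]
    · show Nat.card (S.A.map (MulAut.conj (g : G)).toMonoidHom) = 3 ^ 5
      rw [card_map_of_injective (MulAut.conj (g : G)).injective, S.card_A]
      norm_num

end Setup

end CfsgLib.SuzElem
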